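import Groth.Agent.BlowUpKoszul.ChartLocal
import Groth.Agent.CAlgH3.RegularHom
import Groth.Agent.Liaison28.Unmixed
import Groth.Agent.BlowUpLib.Disjoint
import Groth.Prelude.Def_RegImm

/-!
# Local rings of blow-ups in regularly embedded centres
-/

set_option autoImplicit false
set_option linter.unusedSectionVars false
set_option maxHeartbeats 1000000
set_option backward.isDefEq.respectTransparency false

universe u

open AlgebraicGeometry CategoryTheory TopologicalSpace Opposite
open Groth.Agent.CAlgH.KoszulRegular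

namespace Groth.Agent.BlowUpKoszul

variable {X X' : Scheme.{u}} {J : X.IdealSheafData}

/-- An affine open missing the centre carries the unit ideal. -/
theorem ideal_eq_top_of_disjoint (U : X.affineOpens) (h : ∀ x ∈ U.1, x ∉ J.support) : J.ideal U = ⊤ := by
  by_contra hne
  obtain ⟨p, hp, hle⟩ := Ideal.exists_le_maximal _ hne
  let y : PrimeSpectrum Γ(X, U.1) := ⟨p, hp.isPrime⟩
  have hy : U.2.fromSpec y ∈ U.1 := by
    rw [← SetLike.mem_coe, ← U.2.range_fromSpec]; exact ⟨y, rfl⟩
  refine h _ hy ((Scheme.IdealSheafData.mem_support_iff_of_mem hy).2 ?_)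
  rw [Scheme.mem_zeroLocus_iff]
  intro r hr hmem
  have h2 : y ∈ U.2.fromSpec ⁻¹ᵁ X.basicOpen r := hmem
  rw [U.2.fromSpec_preimage_basicOpen, PrimeSpectrum.mem_basicOpen] at h2
  exact h2 (hle hr)

/-- A regular ideal is, near every point, generated by a weakly regular sequence. -/
theorem exists_regular_gens (hJ : RegImm.IsRegularIdeal RegImm.Kind.regular J) (x : X) :
    ∃ (U : X.affineOpens) (rs : List Γ(X, U.1)), x ∈ U.1 ∧
      RingTheory.Sequence.IsWeaklyRegular Γ(X, U.1) rs ∧ J.ideal U = Ideal.ofList rs := by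
  by_cases hx : x ∈ J.support
  · obtain ⟨U, hxU, rs, hrs, hid⟩ := hJ x hx
    exact ⟨U, rs, hxU, hrs.toIsWeaklyRegular, hid⟩
  · obtain ⟨V, hV, hxV, hVO⟩ := exists_isAffineOpen_mem_and_subset (x := x) (U := J.support.compl) hx
    refine ⟨⟨V, hV⟩, [1], hxV, ?_, ?_⟩
    · rw [RingTheory.Sequence.isWeaklyRegular_cons_iff]
      exact ⟨(IsSMulRegular.one _), RingTheory.Sequence.IsWeaklyRegular.nil _ _⟩
    · rw [ideal_eq_top_of_disjoint ⟨V, hV⟩ fun z hz => hVO hz, Ideal.ofList_singleton, Ideal.span_singleton_one]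

/-- The sections over an affine open of a scheme with regular local rings form a regular ring. -/
theorem isRegularRing_sections [IsLocallyNoetherian X] (h : ∀ x : X, IsRegularLocalRing (X.presheaf.stalk x))
    (U : X.affineOpens) : IsRegularRing Γ(X, U.1) := by
  have := IsLocallyNoetherian.component_noetherian U
  refine ⟨fun p hp => ?_⟩
  obtain ⟨x, -, ⟨e⟩⟩ := localization_stalk_equiv U p
  have := h x
  exact IsRegularLocalRing.of_ringEquiv e

/-- The sections over an affine open of a Cohen–Macaulay scheme form a Cohen–Macaulay ring. -/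
theorem isCohenMacaulayRing_sections [IsLocallyNoetherian X]
    (h : ∀ x : X, LocCoh.IsCohenMacaulayLocalRing (X.presheaf.stalk x)) (U : X.affineOpens) :
    LocCoh.IsCohenMacaulayRing Γ(X, U.1) := by
  have := IsLocallyNoetherian.component_noetherian U
  refine CAlgH3.isCohenMacaulayRing_of_isMaximal fun p hp => ?_
  obtain ⟨x, -, ⟨e⟩⟩ := localization_stalk_equiv U p
  have := h x
  exact CAlgH3.isCohenMacaulayLocalRing_of_ringEquiv e

/-- A quotient of a Cohen–Macaulay ring by a weakly regular sequence is Cohen–Macaulay. -/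
theorem isCohenMacaulayRing_quotient_ofList {A : Type u} [CommRing A] [IsNoetherianRing A]
    [LocCoh.IsCohenMacaulayRing A] (rs : List A) (h : RingTheory.Sequence.IsWeaklyRegular A rs) :
    LocCoh.IsCohenMacaulayRing (A ⧸ Ideal.ofList rs) := by
  induction rs using List.reverseRecOn with
  | nil =>
    exact CAlgH3.isCohenMacaulayRing_of_ringEquiv
      ((RingEquiv.quotientBot A).symm.trans (Ideal.quotEquivOfEq (Ideal.ofList_nil).symm))
  | append_singleton rs r ih =>
    rw [RingTheory.Sequence.isWeaklyRegular_append_iff] at h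
    have := ih h.1
    have hreg := ((RingTheory.Sequence.isWeaklyRegular_singleton_iff _ r).1 h.2)
    have hr : Ideal.Quotient.mk (Ideal.ofList rs) r ∈ nonZeroDivisors (A ⧸ Ideal.ofList rs) := by
      rw [mem_nonZeroDivisors_iff_right]
      intro z hz
      obtain ⟨z, rfl⟩ := Ideal.Quotient.mk_surjective z
      rw [← map_mul, Ideal.Quotient.eq_zero_iff_mem] at hz
      rw [Ideal.Quotient.eq_zero_iff_mem]
      have h2 := hreg.right_eq_zero_of_smul (x := Submodule.Quotient.mk z) (by
        rw [← Submodule.Quotient.mk_smul, Submodule.Quotient.mk_eq_zero, smul_eq_mul]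
        simpa [Ideal.mul_top, mul_comm] using hz)
      rw [Submodule.Quotient.mk_eq_zero] at h2
      simpa [Ideal.mul_top] using h2
    have := Liaison28.cm_sup' (Ideal.ofList rs) r hr
    exact CAlgH3.isCohenMacaulayRing_of_ringEquiv
      (Ideal.quotEquivOfEq (show Ideal.ofList rs ⊔ Ideal.span {r} = Ideal.ofList (rs ++ [r]) by
        rw [Ideal.ofList_append, Ideal.ofList_singleton]))

/-- Local rings of the blow-up of a regular scheme in a regular centre. -/
theorem isRegularLocalRing_stalk_blowUp [IsLocallyNoetherian X]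
    (hX : ∀ x : X, IsRegularLocalRing (X.presheaf.stalk x))
    (hZ : ∀ U : X.affineOpens, IsRegularRing (Γ(X, U.1) ⧸ J.ideal U))
    (hJ : RegImm.IsRegularIdeal RegImm.Kind.regular J) {b : X' ⟶ X} (hb : BlowUp.IsBlowUp b J) (z : X') :
    IsRegularLocalRing (X'.presheaf.stalk z) := by
  obtain ⟨U, rs, hzU, hrs, hid⟩ := exists_regular_gens hJ (b z)
  have hspan : J.ideal U = Ideal.span (Set.range rs.get) := by rw [hid, Ideal.ofList, Set.range_list_get]
  obtain ⟨i, q, hq, ⟨e⟩⟩ := stalk_blowUp hb U rs.get hspan z hzU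
  obtain ⟨m, hm⟩ : ∃ m, rs.length = m + 1 := ⟨rs.length - 1, by have := i.2; omega⟩
  have := isRegularRing_sections hX U
  have := hZ U
  have hreg : KReg rs.get := CAlgH.KoszulH1.kreg_of_isWeaklyRegular (by rwa [List.ofFn_get])
  suffices H : ∀ (n : ℕ) (_ : n = m + 1) (F : Fin n → Γ(X, U.1)) (i : Fin n), KReg F →
      J.ideal U = Ideal.span (Set.range F) →
      ∀ (q : Ideal ↥(BlowUp.affineAlgebra Γ(X, U.1) (J.ideal U) (F i))) [q.IsPrime],
        IsRegularLocalRing (Localization.AtPrime q) by
    have := H _ hm rs.get i hreg hspan q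
    exact IsRegularLocalRing.of_ringEquiv (R := Localization.AtPrime q) e.symm
  rintro _ rfl F i hF hI q hq'
  exact isRegularLocalRing_chart F i hF hI q

/-- Local rings of the blow-up of a Cohen–Macaulay scheme in a regular centre. -/
theorem isCohenMacaulayLocalRing_stalk_blowUp [IsLocallyNoetherian X]
    (hX : ∀ x : X, LocCoh.IsCohenMacaulayLocalRing (X.presheaf.stalk x))
    (hJ : RegImm.IsRegularIdeal RegImm.Kind.regular J) {b : X' ⟶ X} (hb : BlowUp.IsBlowUp b J) (z : X') :
    LocCoh.IsCohenMacaulayLocalRing (X'.presheaf.stalk z) := by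
  obtain ⟨U, rs, hzU, hrs, hid⟩ := exists_regular_gens hJ (b z)
  have hspan : J.ideal U = Ideal.span (Set.range rs.get) := by rw [hid, Ideal.ofList, Set.range_list_get]
  obtain ⟨i, q, hq, ⟨e⟩⟩ := stalk_blowUp hb U rs.get hspan z hzU
  obtain ⟨m, hm⟩ : ∃ m, rs.length = m + 1 := ⟨rs.length - 1, by have := i.2; omega⟩
  have := IsLocallyNoetherian.component_noetherian U
  have := isCohenMacaulayRing_sections hX U
  have : LocCoh.IsCohenMacaulayRing (Γ(X, U.1) ⧸ J.ideal U) := by
    have := isCohenMacaulayRing_quotient_ofList rs hrs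
    exact CAlgH3.isCohenMacaulayRing_of_ringEquiv (Ideal.quotEquivOfEq hid.symm)
  have hreg : KReg rs.get := CAlgH.KoszulH1.kreg_of_isWeaklyRegular (by rwa [List.ofFn_get])
  suffices H : ∀ (n : ℕ) (_ : n = m + 1) (F : Fin n → Γ(X, U.1)) (i : Fin n), KReg F →
      J.ideal U = Ideal.span (Set.range F) →
      ∀ (q : Ideal ↥(BlowUp.affineAlgebra Γ(X, U.1) (J.ideal U) (F i))) [q.IsPrime],
        LocCoh.IsCohenMacaulayLocalRing (Localization.AtPrime q) by
    have := H _ hm rs.get i hreg hspan q
    exact CAlgH3.isCohenMacaulayLocalRing_of_ringEquiv (R := Localization.AtPrime q) e.symm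
  rintro _ rfl F i hF hI q hq'
  exact isCohenMacaulayLocalRing_chart F i hF hI q

/-- The ring of a closed subscheme with regular local rings, on an affine open. -/
theorem isRegularRing_quotient_of_closedImmersion {Z : Scheme.{u}} (i : Z ⟶ X) [IsClosedImmersion i]
    [IsLocallyNoetherian Z] (hZ : ∀ z : Z, IsRegularLocalRing (Z.presheaf.stalk z)) (U : X.affineOpens) :
    IsRegularRing (Γ(X, U.1) ⧸ i.ker.ideal U) := by
  have hs : Function.Surjective (i.app U.1) := i.app_surjective U.1 U.2
  have := isRegularRing_sections hZ ⟨i ⁻¹ᵁ U.1, U.2.preimage i⟩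
  exact IsRegularRing.of_ringEquiv ((RingHom.quotientKerEquivOfSurjective hs).symm.trans
    (Ideal.quotEquivOfEq (Scheme.Hom.ker_apply i U).symm))

end Groth.Agent.BlowUpKoszul
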