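import Groth.Agent.Disc12.Koszul.Regular
import Groth.Agent.CAlgH.KoszulH1
import Groth.Agent.FlatMorPerfect.Koszul
import Groth.Prelude.Def_BlowUp2

/-!
# The relations `a T_j - a_j` of a chart of a blowing up form a Koszul regular sequence
-/

set_option autoImplicit false
set_option backward.isDefEq.respectTransparency false

universe u

open ExteriorAlgebra MvPolynomial
open Groth.Agent.Disc12.Koszul Groth.Agent.CAlgH.KoszulRegular

namespace Groth.Agent.BlowUpKoszul

variable {R : Type u} [CommRing R] {n : ℕ} {c : R} {g : Fin n → R}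

/-- The next element of a Koszul regular sequence is regular modulo the others. -/
theorem mem_span_of_mul_mem (h : KReg (Fin.cons c g)) {r : R} (hr : c * r ∈ Ideal.span (Set.range g)) :
    r ∈ Ideal.span (Set.range g) := by
  obtain ⟨v, hv⟩ := Ideal.mem_span_range_iff_exists_fun.1 hr
  have hz : d (Fin.cons c g) 0 ((exteriorPower.oneEquiv R (Fin (n + 1) → R)).symm (Fin.cons r (-v))) = 0 := by
    rw [d_one_oneEquiv_symm, functional_apply, Fin.sum_univ_succ]
    simp only [Fin.cons_zero, Fin.cons_succ, Pi.neg_apply, neg_mul, Finset.sum_neg_distrib, hv]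
    rw [mul_comm r c, add_neg_cancel, map_zero]
  obtain ⟨z, hz'⟩ := (h 0 _).1 hz
  obtain ⟨⟨A, B⟩, ⟨hA, hB⟩, hAB⟩ := (range_step 1).ge z.2
  have e1 := congrArg Subtype.val hz'
  rw [coe_d, ← hAB, D_step, show ((exteriorPower.oneEquiv R (Fin (n + 1) → R)).symm (Fin.cons r (-v))).1 =
      ι R (Fin.cons r (-v) : Fin (n + 1) → R) by
    rw [show (exteriorPower.oneEquiv R (Fin (n + 1) → R)).symm (Fin.cons r (-v)) =
      exteriorPower.ιMulti R 1 (fun _ => (Fin.cons r (-v) : Fin (n + 1) → R)) by
      rw [LinearEquiv.symm_apply_eq, exteriorPower.oneEquiv_ιMulti],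
      exteriorPower.ιMulti_apply_coe, ExteriorAlgebra.ιMulti_apply, List.ofFn_succ, List.ofFn_zero,
      List.prod_cons, List.prod_nil, mul_one]] at e1
  rw [eq_add_incl (Fin.cons r (-v) : Fin (n + 1) → R), Fin.cons_zero,
    show r • (eps : ExteriorAlgebra R (Fin (n + 1) → R)) = eps * ExteriorAlgebra.map incl (algebraMap R _ r) by
      rw [AlgHom.commutes, ← Algebra.commutes, Algebra.smul_def], ← step_apply] at e1
  have e2 := (Prod.ext_iff.1 (step_injective e1)).1
  have e3 : (e0 r : K R n 0) ∈ LinearMap.range (d g 0) :=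
    ⟨-⟨A, hA⟩, Subtype.ext (by rw [coe_d, Submodule.coe_neg, map_neg]; exact e2)⟩
  rw [range_d_zero] at e3
  obtain ⟨s, hs, hsr⟩ := e3
  exact ((ExteriorAlgebra.algebraMap_leftInverse (Fin n → R)).injective (congrArg Subtype.val hsr)) ▸ hs

/-- Dropping an element by whose powers the cycles are boundaries. -/
theorem kreg_tail (h : KReg (Fin.cons c g)) (hc : ExactUpTo c g) : KReg g := fun p => by
  refine LinearMap.exact_iff.2 (le_antisymm (fun x hx => ?_) ?_)
  swap
  · rintro _ ⟨y, rfl⟩
    exact LinearMap.congr_fun (d_d g p) y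
  obtain ⟨k, hk⟩ : ∃ k : ℕ, c ^ k • x ∈ LinearMap.range (d g (p + 1)) := by
    obtain ⟨k, y, hy⟩ := hc p x hx
    exact ⟨k, y, hy⟩
  suffices key : ∀ (k : ℕ) (x : K R n (p + 1)), d g p x = 0 → c ^ k • x ∈ LinearMap.range (d g (p + 1)) →
      x ∈ LinearMap.range (d g (p + 1)) from key k x hx hk
  intro k
  induction k with
  | zero => intro x _ h; rwa [pow_zero, one_smul] at h
  | succ k ih =>
    intro x hx hk
    refine ih x hx ?_
    rw [pow_succ', mul_smul] at hk
    obtain ⟨y, hy⟩ := hk
    have hy' : D (functional g) y.1 = c • (c ^ k • x.1) := congrArg Subtype.val hy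
    have hx' : D (functional g) (c ^ k • x.1) = 0 := by
      rw [map_smul, show D (functional g) x.1 = 0 from congrArg Subtype.val hx, smul_zero]
    let z : K R (n + 1) (p + 1 + 1) := ⟨step (c ^ k • x.1, -y.1), (range_step (p + 1)).le
      ⟨(c ^ k • x.1, -y.1), ⟨Submodule.smul_mem _ _ x.2, Submodule.neg_mem _ y.2⟩, rfl⟩⟩
    have hz : d (Fin.cons c g) (p + 1) z = 0 := Subtype.ext (by
      rw [coe_d, D_step, map_neg, hx', hy', neg_zero, add_neg_cancel]
      exact map_zero step)
    obtain ⟨w, hw⟩ := (h (p + 1) z).1 hz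
    obtain ⟨⟨A, B⟩, ⟨hA, hB⟩, hAB⟩ := (range_step (p + 1 + 1)).ge w.2
    have e1 : D (functional (Fin.cons c g)) w.1 = step (c ^ k • x.1, -y.1) := congrArg Subtype.val hw
    rw [← hAB, D_step] at e1
    have e2 := (Prod.ext_iff.1 (step_injective e1)).1
    exact ⟨-⟨A, hA⟩, Subtype.ext (by rw [coe_d, Submodule.coe_neg, map_neg]; exact e2)⟩

variable {A : Type u} [CommRing A] {m : ℕ} (f : Fin (m + 1) → A) (k : Fin (m + 1))

local notation "P" => MvPolynomial (Fin m) A
local notation "L" => Localization.Away (f k)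

/-- The relations of the chart at `f k`. -/
noncomputable def rel (j : Fin m) : P := C (f k) * X j - C (f (k.succAbove j))

/-- The ratios `f j / f k`. -/
noncomputable def ratio (j : Fin m) : L :=
  IsLocalization.mk' L (f (k.succAbove j)) (⟨f k, Submonoid.mem_powers _⟩ : Submonoid.powers (f k))

theorem algebraMap_mul_ratio (j : Fin m) : algebraMap A L (f k) * ratio f k j = algebraMap A L (f (k.succAbove j)) := by
  rw [mul_comm]; exact IsLocalization.mk'_spec L (f (k.succAbove j)) _

variable (s : Set (Fin m)) [DecidablePred (· ∈ s)]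

/-- The variables in `s` are replaced by their ratios. -/
noncomputable def subst : P →ₐ[A] MvPolynomial (Fin m) L :=
  aeval fun j => if j ∈ s then C (ratio f k j) else X j

theorem exists_reduce (r : P) : ∃ (N : ℕ) (r₀ : P), C (f k) ^ N * r - r₀ ∈ Ideal.span (rel f k '' s) ∧
    subst f k s r₀ = map (algebraMap A L) r₀ := by
  induction r using MvPolynomial.induction_on with
  | C a => exact ⟨0, C a, by simp, by rw [← algebraMap_eq, AlgHom.commutes, algebraMap_eq, map_C]; rfl⟩
  | add p q hp hq =>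
    obtain ⟨N, p₀, h1, h2⟩ := hp
    obtain ⟨M, q₀, h3, h4⟩ := hq
    refine ⟨N + M, C (f k) ^ M * p₀ + C (f k) ^ N * q₀, ?_, ?_⟩
    · have := add_mem (Ideal.mul_mem_left _ (C (f k) ^ M) h1) (Ideal.mul_mem_left _ (C (f k) ^ N) h3)
      convert this using 1
      ring
    · rw [map_add, map_add, map_mul, map_mul, h2, h4, map_pow, map_pow, map_mul, map_mul, map_pow, map_pow,
        map_C, ← algebraMap_eq, AlgHom.commutes]
      rfl
  | mul_X p j hp =>
    obtain ⟨N, p₀, h1, h2⟩ := hp
    by_cases hj : j ∈ s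
    · refine ⟨N + 1, p₀ * C (f (k.succAbove j)), ?_, ?_⟩
      · have := add_mem (Ideal.mul_mem_right (C (f k) * X j) _ h1)
          (Ideal.mul_mem_left _ p₀ (Ideal.subset_span ⟨j, hj, rfl⟩ : rel f k j ∈ Ideal.span (rel f k '' s)))
        convert this using 1
        simp only [rel]
        ring
      · rw [map_mul, map_mul, h2, map_C, ← algebraMap_eq, AlgHom.commutes]
        rfl
    · refine ⟨N, p₀ * X j, ?_, ?_⟩
      · have := Ideal.mul_mem_right (X j) _ h1
        convert this using 1
        ring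
      · rw [map_mul, map_mul, h2, map_X, subst, aeval_X, if_neg hj]

theorem subst_eq_zero_of_mem {r : P} (hr : r ∈ Ideal.span (rel f k '' s)) : subst f k s r = 0 := by
  refine (Ideal.span_le (I := RingHom.ker (subst f k s))).2 ?_ hr
  rintro _ ⟨j, hj, rfl⟩
  rw [SetLike.mem_coe, RingHom.mem_ker, rel, map_sub, map_mul, ← algebraMap_eq, AlgHom.commutes, AlgHom.commutes,
    subst, aeval_X, if_pos hj, IsScalarTower.algebraMap_apply A L (MvPolynomial (Fin m) L), algebraMap_eq,
    ← map_mul, algebraMap_mul_ratio, IsScalarTower.algebraMap_apply A L (MvPolynomial (Fin m) L), algebraMap_eq,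
    sub_self]

theorem exists_pow_mul_mem_of_subst {r : P} (hr : subst f k s r = 0) :
    ∃ N : ℕ, C (f k) ^ N * r ∈ Ideal.span (rel f k '' s) := by
  classical
  obtain ⟨N, r₀, h1, h2⟩ := exists_reduce f k s r
  have h3 : map (algebraMap A L) r₀ = 0 := by
    have := subst_eq_zero_of_mem f k s h1
    rw [map_sub, map_mul, hr, mul_zero, zero_sub, neg_eq_zero] at this
    rw [← h2, this]
  have h4 : ∀ d, ∃ M : ℕ, f k ^ M * r₀.coeff d = 0 := fun d => by
    have : algebraMap A L (r₀.coeff d) = 0 := by rw [← coeff_map, h3, coeff_zero]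
    obtain ⟨⟨_, M, rfl⟩, hM⟩ := (IsLocalization.map_eq_zero_iff (Submonoid.powers (f k)) L _).1 this
    exact ⟨M, hM⟩
  choose M hM using h4
  refine ⟨(∑ d ∈ r₀.support, M d) + N, ?_⟩
  have h5 : C (f k) ^ (∑ d ∈ r₀.support, M d) * r₀ = 0 := by
    ext d
    rw [← map_pow, coeff_C_mul, coeff_zero]
    by_cases hd : d ∈ r₀.support
    · obtain ⟨t, ht⟩ := Nat.exists_eq_add_of_le (Finset.single_le_sum (fun i _ => Nat.zero_le (M i)) hd)
      rw [ht, add_comm, pow_add, mul_assoc, hM, mul_zero]
    · rw [notMem_support_iff.1 hd, mul_zero]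
  have := Ideal.mul_mem_left _ (C (f k) ^ (∑ d ∈ r₀.support, M d)) h1
  rwa [mul_sub, h5, sub_zero, ← mul_assoc, ← pow_add] at this

theorem exactUpTo_rel : ExactUpTo (C (f k)) (rel f k) := by
  classical
  refine exactUpTo_of_regular _ _ fun i r hr => exists_pow_mul_mem_of_subst f k (Set.Iio i) ?_
  have h := subst_eq_zero_of_mem f k (Set.Iio i) hr
  rw [map_mul] at h
  have hi : subst f k (Set.Iio i) (rel f k i) = C (algebraMap A L (f k)) * (X i - C (ratio f k i)) := by
    rw [rel, map_sub, map_mul, ← algebraMap_eq, AlgHom.commutes, AlgHom.commutes, subst, aeval_X,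
      if_neg (by simp : i ∉ Set.Iio i), IsScalarTower.algebraMap_apply A L (MvPolynomial (Fin m) L),
      IsScalarTower.algebraMap_apply A L (MvPolynomial (Fin m) L), algebraMap_eq, ← algebraMap_mul_ratio, map_mul]
    ring
  rw [hi, mul_assoc] at h
  have hu : IsUnit (C (σ := Fin m) (algebraMap A L (f k))) := (IsLocalization.Away.algebraMap_isUnit (f k)).map C
  have h' := hu.mul_right_eq_zero.1 h
  let τ : MvPolynomial (Fin m) L →ₐ[L] MvPolynomial (Fin m) L :=
    aeval fun j => if j = i then X j + C (ratio f k i) else X j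
  let τ' : MvPolynomial (Fin m) L →ₐ[L] MvPolynomial (Fin m) L :=
    aeval fun j => if j = i then X j - C (ratio f k i) else X j
  have hτ : ∀ z, τ' (τ z) = z := fun z => by
    rw [← AlgHom.comp_apply, show τ'.comp τ = AlgHom.id L _ from algHom_ext fun j => by
      by_cases hj : j = i <;> simp [τ, τ', hj], AlgHom.id_apply]
  have h'' := congrArg τ h'
  rw [map_mul, map_sub, show τ (X i) = X i + C (ratio f k i) by simp [τ], show τ (C (ratio f k i)) = C (ratio f k i) by
    simp [τ], add_sub_cancel_right, map_zero] at h''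
  have h3 := isRegular_X.left (h''.trans (mul_zero _).symm)
  rw [← hτ (subst f k (Set.Iio i) r), h3, map_zero]

/-- The relations form a Koszul regular sequence. -/
theorem kreg_cons_rel (hf : KReg f) : KReg (Fin.cons (C (f k)) (rel f k)) := by
  have h : KReg fun i => algebraMap A P (f i) := hf.map
  refine kreg_of_span_eq h (le_antisymm (Ideal.span_le.2 ?_) (Ideal.span_le.2 ?_))
  · rintro _ ⟨i, rfl⟩
    induction i using Fin.cases with
    | zero => exact Ideal.subset_span ⟨k, rfl⟩
    | succ j =>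
      rw [Fin.cons_succ, rel, SetLike.mem_coe]
      exact sub_mem (Ideal.mul_mem_right _ _ (Ideal.subset_span ⟨k, rfl⟩)) (Ideal.subset_span ⟨_, rfl⟩)
  · rintro _ ⟨i, rfl⟩
    have hk : C (f k) ∈ Ideal.span (Set.range (Fin.cons (C (f k)) (rel f k))) := Ideal.subset_span ⟨0, rfl⟩
    rcases Fin.eq_self_or_eq_succAbove k i with rfl | ⟨j, rfl⟩
    · exact hk
    · have := sub_mem (Ideal.mul_mem_right (X j) _ hk)
        (Ideal.subset_span ⟨j.succ, Fin.cons_succ _ _ j⟩ : rel f k j ∈ Ideal.span (Set.range (Fin.cons (C (f k)) (rel f k))))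
      rw [rel, sub_sub_cancel] at this
      exact this

theorem kreg_rel (hf : KReg f) : KReg (rel f k) :=
  kreg_tail (kreg_cons_rel f k hf) (exactUpTo_rel f k)

theorem ker_aeval_ratio (hf : KReg f) :
    RingHom.ker (aeval (R := A) (ratio f k)) = Ideal.span (Set.range (rel f k)) := by
  classical
  have hC : ∀ r : P, subst f k Set.univ r = C (aeval (ratio f k) r) := fun r => by
    induction r using MvPolynomial.induction_on with
    | C a =>
      rw [← algebraMap_eq, AlgHom.commutes, AlgHom.commutes,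
        IsScalarTower.algebraMap_apply A L (MvPolynomial (Fin m) L), algebraMap_eq]
    | add p q hp hq => rw [map_add, map_add, map_add, hp, hq]
    | mul_X p j hp =>
      rw [map_mul, map_mul, map_mul, hp, aeval_X, subst, aeval_X, if_pos (Set.mem_univ j)]
  refine le_antisymm (fun r hr => ?_) (fun r hr => ?_)
  · obtain ⟨N, hN⟩ := exists_pow_mul_mem_of_subst f k Set.univ (r := r) (by
      rw [hC, show aeval (ratio f k) r = 0 from hr, map_zero])
    rw [Set.image_univ] at hN
    clear hr
    induction N with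
    | zero => rwa [pow_zero, one_mul] at hN
    | succ N ih =>
      refine ih (mem_span_of_mul_mem (kreg_cons_rel f k hf) ?_)
      rwa [pow_succ', mul_assoc] at hN
  · rw [← Set.image_univ] at hr
    have := subst_eq_zero_of_mem f k Set.univ hr
    rw [hC, ← map_zero (C (σ := Fin m) (R := L))] at this
    exact C_injective _ _ this

theorem range_aeval_ratio {I : Ideal A} (hI : I = Ideal.span (Set.range f)) :
    (aeval (R := A) (ratio f k)).range = BlowUp.affineAlgebra A I (f k) := by
  subst hI
  refine le_antisymm ?_ ?_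
  · rintro _ ⟨r, rfl⟩
    induction r using MvPolynomial.induction_on with
    | C a => rw [AlgHom.toRingHom_eq_coe, RingHom.coe_coe, aeval_C]; exact Subalgebra.algebraMap_mem _ _
    | add p q hp hq => rw [map_add]; exact add_mem hp hq
    | mul_X p j hp =>
      rw [map_mul]
      refine mul_mem hp ?_
      rw [AlgHom.toRingHom_eq_coe, RingHom.coe_coe, aeval_X]
      exact Algebra.subset_adjoin ⟨_, Ideal.subset_span ⟨_, rfl⟩, rfl⟩
  · refine Algebra.adjoin_le ?_
    rintro _ ⟨x, hx, rfl⟩
    obtain ⟨v, rfl⟩ := Ideal.mem_span_range_iff_exists_fun.1 hx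
    rw [SetLike.mem_coe, IsLocalization.mk'_eq_mul_mk'_one, map_sum, Finset.sum_mul]
    refine sum_mem fun i _ => ?_
    rw [map_mul, mul_assoc, ← IsLocalization.mk'_eq_mul_mk'_one]
    refine mul_mem (Subalgebra.algebraMap_mem _ _) ?_
    rcases Fin.eq_self_or_eq_succAbove k i with rfl | ⟨j, rfl⟩
    · erw [IsLocalization.mk'_self]
      exact one_mem _
    · exact ⟨X j, by rw [AlgHom.toRingHom_eq_coe, RingHom.coe_coe, aeval_X]; rfl⟩

/-- Charts of blowing ups along Koszul regular sequences are perfect. -/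
theorem ringPerf_chart (hf : KReg f) {I : Ideal A} (hI : I = Ideal.span (Set.range f)) :
    FlatMorPerfect.RingPerf (algebraMap A ↥(BlowUp.affineAlgebra A I (f k))) := by
  let φ : P →ₐ[A] ↥(BlowUp.affineAlgebra A I (f k)) :=
    (aeval (R := A) (ratio f k)).codRestrict _ fun r => by
      rw [← range_aeval_ratio f k hI]; exact ⟨r, rfl⟩
  have hφ : Function.Surjective φ := fun ⟨z, hz⟩ => by
    rw [← range_aeval_ratio f k hI] at hz
    obtain ⟨r, hr⟩ := hz
    exact ⟨r, Subtype.ext hr⟩
  have hker : RingHom.ker φ.toRingHom = Ideal.span (Set.range (rel f k)) := by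
    rw [← ker_aeval_ratio f k hf]
    ext r
    simp [φ, RingHom.mem_ker, Subtype.ext_iff]
  rw [← φ.comp_algebraMap]
  refine FlatMorPerfect.RingPerf.comp (FlatMorPerfect.ringPerf_of_flat _ ?_ ?_)
    (FlatMorPerfect.ringPerf_of_kreg hφ (kreg_rel f k hf) hker)
  · exact RingHom.flat_algebraMap_iff.2 inferInstance
  · exact RingHom.finitePresentation_algebraMap.2 inferInstance

end Groth.Agent.BlowUpKoszul
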