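import Groth.Agent.BlowUpKoszul.StalkApps
import Groth.Prelude.Def_CurvBase

/-!
# Blowing up a regular local ring in its maximal ideal
-/

set_option autoImplicit false
set_option maxHeartbeats 1000000
set_option backward.isDefEq.respectTransparency false

universe u

open AlgebraicGeometry CategoryTheory TopologicalSpace Opposite IsLocalRing
open Groth.Agent.CAlgH.KoszulRegular

namespace Groth.Agent.BlowUpKoszul

variable (A : Type u) [CommRing A] [IsRegularLocalRing A] {X : Scheme.{u}} {b : X ⟶ Spec (CommRingCat.of A)}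

theorem idealSheaf_top_ideal :
    (Curv2.idealSheaf A (maximalIdeal A)).ideal ⟨⊤, isAffineOpen_top _⟩ =
      (maximalIdeal A).map (Scheme.ΓSpecIso (CommRingCat.of A)).inv.hom := by
  show ((maximalIdeal A).map (Scheme.ΓSpecIso (CommRingCat.of A)).inv.hom).map
      ((Spec (CommRingCat.of A)).presheaf.map (homOfLE le_top).op).hom = _
  rw [show (homOfLE (le_top : (⊤ : (Spec (CommRingCat.of A)).Opens) ≤ ⊤)).op = 𝟙 _ from rfl, CategoryTheory.Functor.map_id]
  exact Ideal.map_id _

theorem isRegularRing_quotient_maximal {R : Type u} [CommRing R] (e : A ≃+* R) (I : Ideal R)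
    (h : I = (maximalIdeal A).map e.toRingHom) : IsRegularRing (R ⧸ I) := by
  let _ : Field (A ⧸ maximalIdeal A) := Ideal.Quotient.field _
  exact IsRegularRing.of_ringEquiv (R := A ⧸ maximalIdeal A) (Ideal.quotientEquiv _ _ e h)

omit [IsRegularLocalRing A] in
theorem kreg_equiv {R : Type u} [CommRing R] (e : A ≃+* R) {n : ℕ} (f : Fin n → A) (h : KReg f) :
    KReg fun i => e (f i) := by
  let _ := e.toRingHom.toAlgebra
  have : Module.Flat A R := RingHom.flat_algebraMap_iff.1 (RingHom.Flat.of_bijective e.bijective)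
  have he : (fun i => e (f i)) = fun i => algebraMap A R (f i) := rfl
  rw [he]
  exact @KReg.map n A R _ _ _ _ f h

theorem isRegularLocalRing_stalk_pointBlowUp
    (hb : BlowUp.IsBlowUp b (Curv2.idealSheaf A (maximalIdeal A))) (x : X) :
    IsRegularLocalRing (X.presheaf.stalk x) := by
  let U : (Spec (CommRingCat.of A)).affineOpens := ⟨⊤, isAffineOpen_top _⟩
  let e : A ≃+* Γ(Spec (CommRingCat.of A), U.1) :=
    (Scheme.ΓSpecIso (CommRingCat.of A)).symm.commRingCatIsoToRingEquiv
  obtain ⟨rs, -, hm, hrs⟩ := CAlgH3.exists_isRegular_ofList_eq_maximalIdeal (R := A)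
  let F : Fin rs.length → Γ(Spec (CommRingCat.of A), U.1) := fun i => e (rs.get i)
  have hid : (Curv2.idealSheaf A (maximalIdeal A)).ideal U = (maximalIdeal A).map e.toRingHom :=
    idealSheaf_top_ideal A
  have hF : (Curv2.idealSheaf A (maximalIdeal A)).ideal U = Ideal.span (Set.range F) := by
    rw [hid, ← hm, Ideal.ofList, ← Set.range_list_get, Ideal.map_span, ← Set.range_comp]
    rfl
  obtain ⟨i, q, hq, ⟨eq'⟩⟩ := stalk_blowUp hb U F hF x trivial
  obtain ⟨m, hlen⟩ : ∃ m, rs.length = m + 1 := ⟨rs.length - 1, by have := i.2; omega⟩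
  have := CAlgH3.isRegularRing_of_isRegularLocalRing (R := A)
  have : IsRegularRing Γ(Spec (CommRingCat.of A), U.1) := IsRegularRing.of_ringEquiv e
  have : IsRegularRing (Γ(Spec (CommRingCat.of A), U.1) ⧸ (Curv2.idealSheaf A (maximalIdeal A)).ideal U) :=
    isRegularRing_quotient_maximal A e _ hid
  have hreg : KReg F := kreg_equiv A e rs.get
    (CAlgH.KoszulH1.kreg_of_isWeaklyRegular (by rw [List.ofFn_get]; exact hrs.toIsWeaklyRegular))
  suffices H : ∀ (n : ℕ) (_ : n = m + 1) (F : Fin n → Γ(Spec (CommRingCat.of A), U.1)) (i : Fin n), KReg F →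
      (Curv2.idealSheaf A (maximalIdeal A)).ideal U = Ideal.span (Set.range F) →
      ∀ (q : Ideal ↥(BlowUp.affineAlgebra Γ(Spec (CommRingCat.of A), U.1)
        ((Curv2.idealSheaf A (maximalIdeal A)).ideal U) (F i))) [q.IsPrime],
        IsRegularLocalRing (Localization.AtPrime q) by
    have := H _ hlen F i hreg hF q
    exact IsRegularLocalRing.of_ringEquiv (R := Localization.AtPrime q) eq'.symm
  rintro _ rfl F i hF' hI q hq'
  exact isRegularLocalRing_chart F i hF' hI q

theorem irreducibleSpace_pointBlowUp (hA : maximalIdeal A ≠ ⊥)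
    (hb : BlowUp.IsBlowUp b (Curv2.idealSheaf A (maximalIdeal A))) : IrreducibleSpace X := by
  have := CAlgH3.isDomain_of_isRegularLocalRing A
  set J := Curv2.idealSheaf A (maximalIdeal A)
  let W : (Spec (CommRingCat.of A)).Opens := J.support.compl
  obtain ⟨r, hr, hr0⟩ := Submodule.exists_mem_ne_zero_of_ne_bot hA
  have hη : (⟨⊥, Ideal.isPrime_bot⟩ : PrimeSpectrum A) ∈ (W : Set (Spec (CommRingCat.of A))) := by
    intro h
    have h2 := (Scheme.IdealSheafData.mem_support_iff_of_mem
      (U := ⟨⊤, isAffineOpen_top _⟩) (trivial : _ ∈ (⊤ : (Spec (CommRingCat.of A)).Opens))).1 h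
    rw [Scheme.mem_zeroLocus_iff] at h2
    have h3 := h2 _ ((idealSheaf_top_ideal A).ge (Ideal.mem_map_of_mem _ hr))
    have h4 : (Spec (CommRingCat.of A)).basicOpen ((Scheme.ΓSpecIso (CommRingCat.of A)).inv r) =
        PrimeSpectrum.basicOpen r := basicOpen_eq_of_affine (R := CommRingCat.of A) r
    exact h3 (h4.ge (fun hmem => hr0 hmem))
  have hirr : IsIrreducible (W : Set (Spec (CommRingCat.of A))) :=
    ⟨⟨_, hη⟩, IsPreirreducible.open_subset PreirreducibleSpace.isPreirreducible_univ W.isOpen (Set.subset_univ _)⟩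
  have := SDiv28.isIso_off_center hb
  let V : X.Opens := SDiv28.offCenter b J
  have hd : Dense (V : Set X) := by
    rw [dense_iff_inter_open]
    intro O hO hne
    by_contra hempty
    rw [Set.not_nonempty_iff_eq_empty] at hempty
    let O' : X.Opens := ⟨O, hO⟩
    have hbot : O' ⊓ SDiv28.offCenter b J = ⊥ := Opens.ext hempty
    have hsub : Subsingleton Γ(X, O' ⊓ SDiv28.offCenter b J) := by rw [hbot]; infer_instance
    have h1 := SDiv28.isDenseOpen_offCenter hb O' 1 (Subsingleton.elim _ _)
    obtain ⟨x, hx⟩ := hne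
    exact one_ne_zero (α := X.presheaf.stalk x)
      (by rw [← map_one (X.presheaf.germ O' x hx).hom, h1, map_zero])
  let h : (V : Scheme.{u}) ≅ (W : Scheme.{u}) := asIso (b ∣_ W)
  have hW : IrreducibleSpace (W : Scheme.{u}) := by
    have := hirr.isPreirreducible
    exact { toPreirreducibleSpace := (isPreirreducible_iff_preirreducibleSpace.1 this),
            toNonempty := ⟨⟨_, hη⟩⟩ }
  have hV : IrreducibleSpace (V : Scheme.{u}) :=
    (h.inv.homeomorph).surjective.irreducibleSpace h.inv.continuous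
  have hVirr : IsIrreducible (V : Set X) := by
    have := (IrreducibleSpace.isIrreducible_univ (V : Scheme.{u})).image V.ι V.ι.continuous.continuousOn
    rwa [Set.image_univ, Scheme.Opens.range_ι] at this
  have := hVirr.closure
  rw [hd.closure_eq] at this
  exact irreducibleSpace_def (X := X) |>.2 this

end Groth.Agent.BlowUpKoszul
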