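import Groth.Agent.BlowUpKoszul.Relations
import Groth.Agent.BlowUpKoszul.StalkApps
import Groth.Agent.FlatMor12.BlowUpDisjoint
import Groth.Agent.CAlgH.KoszulDescent
import Groth.Agent.BlowUpLib.Proper
import Mathlib.AlgebraicGeometry.PullbackCarrier

/-!
# Base change of a blow-up in a Koszul regular ideal under Tor-independence
-/

set_option autoImplicit false
set_option linter.unusedSectionVars false
set_option maxHeartbeats 1000000
set_option maxSynthPendingDepth 3
set_option backward.isDefEq.respectTransparency false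

universe u

open AlgebraicGeometry CategoryTheory CategoryTheory.Limits TopologicalSpace MvPolynomial
open Groth.Agent.CAlgH.KoszulRegular
open scoped TensorProduct

namespace Groth.Agent.BlowUpKoszul

/-- The base change of the chart has `a` as a nonzerodivisor, when the sequence stays Koszul regular. -/
theorem isSMulRegular_baseChange {A A' : Type u} [CommRing A] [CommRing A'] [Algebra A A'] {I : Ideal A}
    {m : ℕ} (f : Fin (m + 1) → A) (k : Fin (m + 1)) (hI : I = Ideal.span (Set.range f))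
    (hf' : KReg fun i => algebraMap A A' (f i)) :
    (1 ⊗ₜ[A] algebraMap A (CR I (f k)) (f k) : A' ⊗[A] CR I (f k)) ∈ nonZeroDivisors _ := by
  let B := CR I (f k)
  let f' : Fin (m + 1) → A' := fun i => algebraMap A A' (f i)
  let L' := Localization.Away (f' k)
  let φ : MvPolynomial (Fin m) A →ₐ[A] B :=
    (aeval (R := A) (ratio f k)).codRestrict _ fun r => by
      rw [← range_aeval_ratio f k hI]; exact ⟨r, rfl⟩
  have hφ : Function.Surjective φ := fun ⟨z, hz⟩ => by
    rw [← range_aeval_ratio f k hI] at hz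
    obtain ⟨r, hr⟩ := hz
    exact ⟨r, Subtype.ext hr⟩
  let θ : MvPolynomial (Fin m) A' →ₐ[A'] A' ⊗[A] B := aeval fun j => 1 ⊗ₜ φ (X j)
  have hθX : ∀ p : MvPolynomial (Fin m) A, θ (MvPolynomial.map (algebraMap A A') p) = 1 ⊗ₜ φ p := fun p => by
    induction p using MvPolynomial.induction_on with
    | C a =>
      rw [MvPolynomial.map_C, ← algebraMap_eq, AlgHom.commutes, ← algebraMap_eq, AlgHom.commutes,
        Algebra.TensorProduct.algebraMap_apply, Algebra.algebraMap_self, RingHom.id_apply,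
        Algebra.algebraMap_eq_smul_one, Algebra.algebraMap_eq_smul_one (R := A) (A := B),
        TensorProduct.smul_tmul]
    | add p q hp hq => simp only [map_add, hp, hq, TensorProduct.tmul_add]
    | mul_X p j hp =>
      simp only [map_mul, MvPolynomial.map_X, hp, θ, aeval_X, Algebra.TensorProduct.tmul_mul_tmul, one_mul]
  have hθ : Function.Surjective θ := fun z => by
    induction z using TensorProduct.induction_on with
    | zero => exact ⟨0, map_zero _⟩
    | tmul a b =>
      obtain ⟨p, rfl⟩ := hφ b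
      refine ⟨C a * MvPolynomial.map (algebraMap A A') p, ?_⟩
      rw [map_mul, hθX, ← algebraMap_eq, AlgHom.commutes, Algebra.TensorProduct.algebraMap_apply,
        Algebra.TensorProduct.tmul_mul_tmul, one_mul, mul_one, Algebra.algebraMap_self, RingHom.id_apply]
    | add x y hx hy =>
      obtain ⟨p, rfl⟩ := hx
      obtain ⟨q, rfl⟩ := hy
      exact ⟨p + q, map_add _ _ _⟩
  have hu : IsUnit (algebraMap A L' (f k)) := by
    rw [IsScalarTower.algebraMap_apply A A' L']
    exact IsLocalization.Away.algebraMap_isUnit (S := L') (f' k)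
  let res : Localization.Away (f k) →ₐ[A] L' := IsLocalization.liftAlgHom (M := Submonoid.powers (f k))
    (f := Algebra.ofId A L') (by rintro ⟨_, n, rfl⟩; simpa using hu.pow n)
  let ν : A' ⊗[A] B →ₐ[A'] L' := Algebra.TensorProduct.lift (Algebra.ofId A' L')
    (res.comp (BlowUp.affineAlgebra A I (f k)).val) fun _ _ => Commute.all _ _
  have hν : ∀ j, ν (θ (X j)) = ratio f' k j := fun j => by
    simp only [θ, aeval_X, ν, Algebra.TensorProduct.lift_tmul, map_one, one_mul]
    refine (IsLocalization.Away.algebraMap_isUnit (S := L') (f' k)).mul_left_cancel ?_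
    rw [algebraMap_mul_ratio, ← IsScalarTower.algebraMap_apply A A' L', ← res.commutes, AlgHom.comp_apply,
      ← map_mul, ← IsScalarTower.algebraMap_apply A A' L', ← res.commutes]
    refine congrArg res ?_
    show algebraMap A _ (f k) * ((φ (X j)) : Localization.Away (f k)) = _
    rw [← algebraMap_mul_ratio]
    show algebraMap A _ (f k) * aeval (ratio f k) (X j) = _
    rw [aeval_X]
  have hνθ : ν.comp θ = aeval (ratio f' k) := MvPolynomial.algHom_ext fun j => by
    rw [AlgHom.comp_apply, hν, aeval_X]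
  have hrel : ∀ j, θ (rel f' k j) = 0 := fun j => by
    have h1 : rel f' k j = MvPolynomial.map (algebraMap A A') (rel f k j) := by
      simp [rel, f']
    have h2 : φ (rel f k j) = 0 := Subtype.ext (by
      show aeval (ratio f k) (rel f k j) = 0
      simp [rel, algebraMap_mul_ratio])
    rw [h1, hθX, h2, TensorProduct.tmul_zero]
  have hinj : Function.Injective ν := by
    refine (injective_iff_map_eq_zero ν).2 fun z hz => ?_
    obtain ⟨p, rfl⟩ := hθ z
    have hp : p ∈ RingHom.ker (aeval (R := A') (ratio f' k)) := by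
      rw [RingHom.mem_ker, ← hνθ]; exact hz
    rw [ker_aeval_ratio f' k hf'] at hp
    have hle : Ideal.span (Set.range (rel f' k)) ≤ RingHom.ker θ := by
      rw [Ideal.span_le]; rintro _ ⟨j, rfl⟩; exact hrel j
    exact hle hp
  rw [mem_nonZeroDivisors_iff_right]
  intro z hz
  refine hinj ?_
  rw [map_zero]
  have h := congrArg ν hz
  rw [map_mul, map_zero] at h
  refine IsUnit.mul_left_eq_zero (?_ : IsUnit (ν _)) |>.1 h
  have : ν (1 ⊗ₜ[A] algebraMap A B (f k)) = algebraMap A L' (f k) := by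
    simp only [ν, Algebra.TensorProduct.lift_tmul, map_one, one_mul, AlgHom.commutes]
  rw [this]
  exact hu

/-- The inverse image of a principal ideal by a morphism of affine schemes. -/
theorem isEffCartierIdeal_comap_spec {R S : CommRingCat.{u}} (ψ : R ⟶ S) (K : (Spec R).IdealSheafData) (a : R)
    (hK : K.ideal ⟨⊤, isAffineOpen_top _⟩ = Ideal.span {(Scheme.ΓSpecIso R).inv a})
    (ha : ψ a ∈ nonZeroDivisors S) : BlowUp.IsEffCartierIdeal (K.comap (Spec.map ψ)) := by
  intro w
  refine ⟨⟨⊤, isAffineOpen_top _⟩, trivial, (Scheme.ΓSpecIso S).inv (ψ a), ?_, ?_⟩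
  · refine mem_nonZeroDivisors_of_injective (f := (Scheme.ΓSpecIso S).hom.hom)
      (ConcreteCategory.bijective_of_isIso _).1 ?_
    erw [Iso.inv_hom_id_apply]
    exact ha
  · rw [ProjLib.comap_ideal_eq K (Spec.map ψ) ⟨⊤, isAffineOpen_top _⟩ ⟨⊤, isAffineOpen_top _⟩ le_top, hK,
      Ideal.map_span, Set.image_singleton]
    refine congrArg (fun x => Ideal.span {x}) ?_
    rw [show (Spec.map ψ).appLE ⊤ ⊤ le_top = (Spec.map ψ).appTop from Scheme.Hom.appLE_eq_app (f := Spec.map ψ) (U := ⊤)]
    exact (ConcreteCategory.congr_hom (Scheme.ΓSpecIso_inv_naturality ψ) a).symm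

variable {X X' B : Scheme.{u}} {J : X.IdealSheafData}

/-- Near each point a Koszul regular ideal is generated by a Koszul regular sequence. -/
theorem exists_koszul_gens (hJ : RegImm.IsRegularIdeal RegImm.Kind.koszul J) (x : X) :
    ∃ (U : X.affineOpens) (rs : List Γ(X, U.1)), x ∈ U.1 ∧
      LCI.IsKoszulRegularSeq Γ(X, U.1) rs ∧ J.ideal U = Ideal.ofList rs := by
  by_cases hx : x ∈ J.support
  · obtain ⟨U, hxU, rs, hrs, hid⟩ := hJ x hx
    exact ⟨U, rs, hxU, hrs, hid⟩
  · obtain ⟨V, hV, hxV, hVO⟩ := exists_isAffineOpen_mem_and_subset (x := x) (U := J.support.compl) hx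
    refine ⟨⟨V, hV⟩, List.ofFn fun _ : Fin 1 => 1, hxV, ?_, ?_⟩
    · rw [CAlgH.KoszulRegular.isKoszulRegularSeq_iff]
      refine CAlgH.KoszulH1.kreg_of_isWeaklyRegular ?_
      rw [List.ofFn_succ, List.ofFn_zero, RingTheory.Sequence.isWeaklyRegular_cons_iff]
      exact ⟨(IsSMulRegular.one _), RingTheory.Sequence.IsWeaklyRegular.nil _ _⟩
    · rw [ideal_eq_top_of_disjoint ⟨V, hV⟩ fun z hz => hVO hz, List.ofFn_succ, List.ofFn_zero,
        Ideal.ofList_singleton, Ideal.span_singleton_one]

/-- Tor-independent base change of a blow-up in a Koszul regular ideal. -/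
theorem isBlowUp_baseChange (hJ : RegImm.IsRegularIdeal .koszul J) (g : X' ⟶ X)
    (hg : ∀ (U : X.affineOpens) (rs : List Γ(X, U.1)), LCI.IsKoszulRegularSeq Γ(X, U.1) rs →
      J.ideal U = Ideal.ofList rs → ∀ (V : X'.affineOpens) (e : V.1 ≤ g ⁻¹ᵁ U.1),
        LCI.IsKoszulRegularSeq Γ(X', V.1) (rs.map fun r => (g.appLE U.1 V.1 e).hom r))
    (b : B ⟶ X) (hb : BlowUp.IsBlowUp b J) :
    BlowUp.IsBlowUp (pullback.snd b g) (J.comap g) := by
  refine ⟨?_, fun Y h hh => ?_⟩
  swap
  · rw [← Scheme.IdealSheafData.comap_comp] at hh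
    obtain ⟨l, hl, hlu⟩ := hb.2 Y (h ≫ g) hh
    refine ⟨pullback.lift l h hl, pullback.lift_snd _ _ _, fun l' hl' => ?_⟩
    refine pullback.hom_ext ?_ (by rw [pullback.lift_snd]; exact hl')
    rw [pullback.lift_fst]
    refine hlu _ ?_
    show (l' ≫ pullback.fst b g) ≫ b = h ≫ g
    have hl'' : l' ≫ pullback.snd b g = h := hl'
    rw [Category.assoc, pullback.condition, reassoc_of% hl'']
  rw [← Scheme.IdealSheafData.comap_comp, ← pullback.condition]
  refine FlatMor12.BlowUpDisjoint.isEffCartierIdeal_of_cover _ fun z => ?_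
  obtain ⟨U, rs, hzU, hrs, hid⟩ := exists_koszul_gens hJ (b (pullback.fst b g z))
  have hspan : J.ideal U = Ideal.span (Set.range rs.get) := by rw [hid, Ideal.ofList, Set.range_list_get]
  obtain ⟨a, ⟨i, rfl⟩, hmem⟩ := BlowUpLib.exists_mem_locus b hb.1 U (show pullback.fst b g z ∈ b ⁻¹ᵁ U.1 from hzU)
    (Set.range rs.get) hspan.symm
  have ha : rs.get i ∈ J.ideal U := hspan ▸ Ideal.subset_span ⟨i, rfl⟩
  obtain ⟨e, he⟩ := SDiv28.exists_locus_iso hb U ha
  have hz2 : g (pullback.snd b g z) ∈ U.1 := by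
    rw [← Scheme.Hom.comp_apply, ← pullback.condition, Scheme.Hom.comp_apply]; exact hzU
  obtain ⟨V, hV, hzV, hVU⟩ := exists_isAffineOpen_mem_and_subset (x := pullback.snd b g z) (U := g ⁻¹ᵁ U.1) hz2
  let A := Γ(X, U.1)
  let A' := Γ(X', V)
  let ρ : A ⟶ A' := g.appLE U.1 V hVU
  let _ : Algebra A A' := ρ.hom.toAlgebra
  obtain ⟨m, hm⟩ : ∃ m, rs.length = m + 1 := ⟨rs.length - 1, by have := i.2; omega⟩
  let F : Fin (m + 1) → A := fun j => rs.get (j.cast hm.symm)
  have hF : J.ideal U = Ideal.span (Set.range F) := by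
    rw [hspan]
    exact congrArg Ideal.span (Set.ext fun z => ⟨fun ⟨j, hj⟩ => ⟨j.cast hm, by simpa [F] using hj⟩,
      fun ⟨j, hj⟩ => ⟨j.cast hm.symm, hj⟩⟩)
  have hreg' : KReg fun j => algebraMap A A' (F j) := by
    rw [← CAlgH.KoszulRegular.isKoszulRegularSeq_iff]
    have h := hg U rs hrs hid ⟨V, hV⟩ hVU
    convert h using 1
    refine List.ext_getElem (by simp [hm]) fun n h1 h2 => ?_
    simp only [List.getElem_ofFn, List.getElem_map, F, List.get_eq_getElem, Fin.cast]
    rfl
  have key := isSMulRegular_baseChange (A' := A') F (i.cast hm) hF hreg'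
  let C := CR (J.ideal U) (rs.get i)
  let q : BlowUpLib.chart J U (rs.get i) ⟶ B := e.inv ≫ (BlowUpLib.locus J b U (rs.get i)).ι
  have hq : BlowUpLib.chartMap J U (rs.get i) = q ≫ b := by
    rw [show q ≫ b = e.inv ≫ (BlowUpLib.locus J b U (rs.get i)).ι ≫ b from Category.assoc _ _ _, ← he,
      Iso.inv_hom_id_assoc]
  have e₁ : Spec.map (CommRingCat.ofHom (algebraMap A C)) ≫ U.2.fromSpec = q ≫ b := hq
  have e₂ : Spec.map (CommRingCat.ofHom (algebraMap A A')) ≫ U.2.fromSpec = hV.fromSpec ≫ g :=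
    IsAffineOpen.SpecMap_appLE_fromSpec g U.2 hV hVU
  let M := pullback.map (Spec.map (CommRingCat.ofHom (algebraMap A A')))
    (Spec.map (CommRingCat.ofHom (algebraMap A C))) g b hV.fromSpec q U.2.fromSpec e₂ e₁
  let j : Spec (CommRingCat.of (A' ⊗[A] C)) ⟶ pullback b g :=
    ((pullbackSpecIso A A' C).inv ≫ M) ≫ (pullbackSymmetry g b).hom
  refine ⟨_, j, inferInstance, ?_, ?_⟩
  · have hM : (pullbackSymmetry g b).inv z ∈ Set.range M := by
      rw [Scheme.Pullback.range_map]
      refine ⟨?_, ?_⟩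
      · rw [Set.mem_preimage, ← Scheme.Hom.comp_apply, pullbackSymmetry_inv_comp_fst]
        exact hV.range_fromSpec.ge hzV
      · rw [Set.mem_preimage, ← Scheme.Hom.comp_apply, pullbackSymmetry_inv_comp_snd]
        refine ⟨e.hom ⟨_, hmem⟩, ?_⟩
        show (BlowUpLib.locus J b U (rs.get i)).ι (e.inv (e.hom ⟨_, hmem⟩)) = _
        rw [← Scheme.Hom.comp_apply e.hom e.inv, e.hom_inv_id]
        rfl
    obtain ⟨w, hw⟩ := hM
    refine ⟨(pullbackSpecIso A A' C).hom w, ?_⟩
    simp only [j, Scheme.Hom.comp_apply]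
    rw [← Scheme.Hom.comp_apply (pullbackSpecIso A A' C).hom, Iso.hom_inv_id]
    show (pullbackSymmetry g b).hom (M w) = z
    rw [hw, ← Scheme.Hom.comp_apply, Iso.inv_hom_id]
    rfl
  · rw [← Scheme.IdealSheafData.comap_comp]
    have hcomp : j ≫ pullback.fst b g ≫ b =
        Spec.map (CommRingCat.ofHom (Algebra.TensorProduct.includeRight : C →ₐ[A] A' ⊗[A] C).toRingHom) ≫
          BlowUpLib.chartMap J U (rs.get i) := by
      simp only [j, M, Category.assoc, pullbackSymmetry_hom_comp_fst_assoc, pullback.lift_snd_assoc]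
      rw [← hq]
      exact (pullbackSpecIso_inv_snd_assoc A A' C _)
    rw [hcomp, Scheme.IdealSheafData.comap_comp]
    obtain ⟨⟨eT, hT⟩, -⟩ := BlowUpLib.generates_chartMap (I := J) (U := U) ha
    refine isEffCartierIdeal_comap_spec (R := CommRingCat.of C) (S := CommRingCat.of (A' ⊗[A] C))
      (CommRingCat.ofHom (Algebra.TensorProduct.includeRight : C →ₐ[A] A' ⊗[A] C).toRingHom) _
      (algebraMap A C (rs.get i)) ?_ key
    rw [hT, BlowUpLib.chartMap_appLE eT]
    rfl

end Groth.Agent.BlowUpKoszul
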