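import Groth.Agent.BlowUpKoszul.Relations
import Groth.Agent.SDiv28.Charts
import Groth.Agent.CAlgH3.RegularCore
import Groth.Agent.CAlgH3.CMPolynomial
import Mathlib.RingTheory.RegularLocalRing.Polynomial
import Mathlib.RingTheory.RingHom.Surjective
import Mathlib.RingTheory.Polynomial.Quotient

/-!
# Local rings of the charts of a blow-up in a Koszul regular ideal

A local ring of `B = A[I/a]` is a local ring of `A` away from `a`, and modulo the regular element `a` it is a
local ring of `(A/I)[T]`.
-/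

set_option autoImplicit false
set_option linter.unusedSectionVars false
set_option maxHeartbeats 1000000
set_option maxSynthPendingDepth 3
set_option synthInstance.maxHeartbeats 100000
set_option backward.isDefEq.respectTransparency false

universe u

open MvPolynomial AlgebraicGeometry CategoryTheory
open Groth.Agent.CAlgH.KoszulRegular

namespace Groth.Agent.BlowUpKoszul

variable {A : Type u} [CommRing A] {I : Ideal A}

/-- The ring of the chart at `a`. -/
abbrev CR (I : Ideal A) (a : A) : Type u := ↥(BlowUp.affineAlgebra A I a)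

theorem isSMulRegular_chart (a : A) (b : CR I a) (h : algebraMap A (CR I a) a * b = 0) : b = 0 := by
  refine Subtype.ext ?_
  have h' := congrArg Subtype.val h
  exact (IsLocalization.Away.algebraMap_isUnit (S := Localization.Away a) a).mul_right_eq_zero.1 h'

theorem isLocalization_chart (a : A) :
    IsLocalization (Submonoid.powers (algebraMap A (CR I a) a)) (Localization.Away a) where
  map_units := by
    rintro ⟨_, n, rfl⟩
    exact ((IsLocalization.Away.algebraMap_isUnit (S := Localization.Away a) a).pow n)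
  surj z := by
    obtain ⟨n, b, hb⟩ := IsLocalization.Away.surj a z
    refine ⟨⟨algebraMap A (CR I a) b, ⟨_, n, rfl⟩⟩, ?_⟩
    show z * ((algebraMap A (CR I a) a ^ n : CR I a) : Localization.Away a) = _
    rw [SubmonoidClass.coe_pow]
    exact hb
  exists_of_eq {x y} h := ⟨1, by rw [Subtype.ext h]⟩

/-- Away from `a` the local rings of the chart are those of `A`. -/
theorem localization_of_notMem (a : A) (q : Ideal (CR I a)) [q.IsPrime] (h : algebraMap A (CR I a) a ∉ q) :
    Nonempty (Localization.AtPrime (q.comap (algebraMap A (CR I a))) ≃+* Localization.AtPrime q) := by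
  let L := Localization.Away a
  have := isLocalization_chart (I := I) a
  have hdisj : Disjoint (Submonoid.powers (algebraMap A (CR I a) a) : Set (CR I a)) q := by
    rw [Set.disjoint_left]
    rintro _ ⟨n, rfl⟩ hn
    exact h (Ideal.IsPrime.mem_of_pow_mem inferInstance n hn)
  let q' : Ideal L := q.map (algebraMap (CR I a) L)
  have : q'.IsPrime := IsLocalization.isPrime_of_isPrime_disjoint _ L q inferInstance hdisj
  have hq : q'.comap (algebraMap (CR I a) L) = q :=
    IsLocalization.under_map_of_isPrime_disjoint _ L inferInstance hdisj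
  have h1 : IsLocalization.AtPrime (Localization.AtPrime q') q := by
    convert IsLocalization.isLocalization_isLocalization_atPrime_isLocalization
      (Submonoid.powers (algebraMap A (CR I a) a)) (Localization.AtPrime q') q'
    exact hq.symm
  have h2 : IsLocalization.AtPrime (Localization.AtPrime q') (q.comap (algebraMap A (CR I a))) := by
    convert IsLocalization.isLocalization_isLocalization_atPrime_isLocalization
      (Submonoid.powers a) (Localization.AtPrime q') q'
    rw [← hq, Ideal.comap_comap, ← IsScalarTower.algebraMap_eq]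
  exact ⟨(IsLocalization.algEquiv (q.comap (algebraMap A (CR I a))).primeCompl _ (Localization.AtPrime q')).toRingEquiv.trans
    (IsLocalization.algEquiv q.primeCompl (Localization.AtPrime q') (Localization.AtPrime q)).toRingEquiv⟩

/-- A localisation modulo a principal ideal is a localisation of the quotient. -/
theorem quotient_localization {R S : Type u} [CommRing R] [CommRing S] (χ : R →+* S) (hχ : Function.Surjective χ)
    (x : R) (hk : RingHom.ker χ = Ideal.span {x}) (q : Ideal R) [q.IsPrime] (hx : x ∈ q) :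
    ∃ (Q : Ideal S) (_ : Q.IsPrime), Nonempty
      ((Localization.AtPrime q ⧸ Ideal.span {algebraMap R (Localization.AtPrime q) x}) ≃+* Localization.AtPrime Q) := by
  have hkq : RingHom.ker χ ≤ q := by rw [hk, Ideal.span_singleton_le_iff_mem]; exact hx
  let Q := q.map χ
  have hQ : Q.IsPrime := Ideal.map_isPrime_of_surjective hχ hkq
  have hqQ : q = Q.comap χ := by
    rw [Ideal.comap_map_of_surjective _ hχ, ← RingHom.ker_eq_comap_bot, sup_of_le_left hkq]
  let ψ := Localization.localRingHom q Q χ hqQ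
  have hψ : Function.Surjective ψ := fun z => by
    obtain ⟨s, t, rfl⟩ := IsLocalization.exists_mk'_eq Q.primeCompl z
    obtain ⟨s', rfl⟩ := hχ s
    obtain ⟨t', ht'⟩ := hχ t
    have ht : t' ∈ q.primeCompl := fun h => t.2 (ht' ▸ Ideal.mem_map_of_mem χ h)
    refine ⟨IsLocalization.mk' _ s' (⟨t', ht⟩ : q.primeCompl), ?_⟩
    rw [Localization.localRingHom_mk']
    exact congrArg (IsLocalization.mk' _ _) (Subtype.ext ht')
  refine ⟨Q, hQ, ⟨(Ideal.quotEquivOfEq ?_).trans (RingHom.quotientKerEquivOfSurjective hψ)⟩⟩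
  refine le_antisymm ?_ fun z hz => ?_
  · rw [Ideal.span_singleton_le_iff_mem, RingHom.mem_ker, Localization.localRingHom_to_map,
      show χ x = 0 from (RingHom.mem_ker).1 (hk ▸ Ideal.mem_span_singleton_self x), map_zero]
  · obtain ⟨s, t, rfl⟩ := IsLocalization.exists_mk'_eq q.primeCompl z
    rw [RingHom.mem_ker, Localization.localRingHom_mk', IsLocalization.mk'_eq_zero_iff] at hz
    obtain ⟨⟨c, hc⟩, hc'⟩ := hz
    obtain ⟨c', rfl⟩ := hχ c
    obtain ⟨r, hr⟩ := Ideal.mem_span_singleton'.1 (hk ▸ (RingHom.mem_ker).2 (by rw [map_mul]; exact hc') :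
      c' * s ∈ Ideal.span {x})
    have hc'' : c' ∈ q.primeCompl := fun h => hc (Ideal.mem_map_of_mem χ h)
    refine Ideal.mem_span_singleton'.2 ⟨IsLocalization.mk' _ r (⟨c', hc''⟩ * t : q.primeCompl), ?_⟩
    rw [mul_comm, IsLocalization.mul_mk'_eq_mk'_of_mul]
    refine IsLocalization.mk'_eq_of_eq ?_
    show c' * t * s = (t : R) * (x * r)
    rw [mul_comm x r, hr]
    ring

variable {m : ℕ} (f : Fin (m + 1) → A) (k : Fin (m + 1))

/-- Modulo `a` the chart is affine space over `A/I`. -/
theorem exists_chart_quotient (hf : KReg f) (hI : I = Ideal.span (Set.range f)) :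
    ∃ χ : (CR I (f k)) →+* MvPolynomial (Fin m) (A ⧸ I), Function.Surjective χ ∧
      RingHom.ker χ = Ideal.span {algebraMap A (CR I (f k)) (f k)} := by
  let φ : MvPolynomial (Fin m) A →ₐ[A] (CR I (f k)) :=
    (aeval (R := A) (ratio f k)).codRestrict _ fun r => by
      rw [← range_aeval_ratio f k hI]; exact ⟨r, rfl⟩
  have hφ : Function.Surjective φ := fun ⟨z, hz⟩ => by
    rw [← range_aeval_ratio f k hI] at hz
    obtain ⟨r, hr⟩ := hz
    exact ⟨r, Subtype.ext hr⟩
  have hker : RingHom.ker φ.toRingHom = Ideal.span (Set.range (rel f k)) := by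
    rw [← ker_aeval_ratio f k hf]
    ext r
    simp [φ, RingHom.mem_ker, Subtype.ext_iff]
  let g : MvPolynomial (Fin m) A →+* MvPolynomial (Fin m) (A ⧸ I) := MvPolynomial.map (Ideal.Quotient.mk I)
  have hfI : ∀ i, Ideal.Quotient.mk I (f i) = 0 := fun i =>
    Ideal.Quotient.eq_zero_iff_mem.2 (hI ▸ Ideal.subset_span ⟨i, rfl⟩)
  have hg : RingHom.ker φ.toRingHom ≤ RingHom.ker g := by
    rw [hker, Ideal.span_le]
    rintro _ ⟨j, rfl⟩
    simp [g, rel, hfI]
  let χ := φ.toRingHom.liftOfSurjective hφ ⟨g, hg⟩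
  have hχ : ∀ p, χ (φ p) = g p := fun p => φ.toRingHom.liftOfRightInverse_comp_apply _ _ ⟨g, hg⟩ p
  refine ⟨χ, fun z => ?_, le_antisymm (fun b hb => ?_) ?_⟩
  · obtain ⟨p, hp⟩ := MvPolynomial.map_surjective (σ := Fin m) _ Ideal.Quotient.mk_surjective z
    exact ⟨φ p, (hχ p).trans hp⟩
  · obtain ⟨p, rfl⟩ := hφ b
    have hp : p ∈ RingHom.ker g := by rw [RingHom.mem_ker, ← hχ]; exact hb
    rw [show RingHom.ker g = _ from MvPolynomial.ker_map _, Ideal.mk_ker, hI, Ideal.map_span] at hp
    have h := Ideal.mem_map_of_mem φ.toRingHom hp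
    rw [Ideal.map_span] at h
    refine Ideal.span_le.2 ?_ h
    rintro _ ⟨_, ⟨_, ⟨i, rfl⟩, rfl⟩, rfl⟩
    rw [SetLike.mem_coe, AlgHom.toRingHom_eq_coe, RingHom.coe_coe, ← algebraMap_eq, AlgHom.commutes,
      Ideal.mem_span_singleton']
    rcases Fin.eq_self_or_eq_succAbove k i with rfl | ⟨j, rfl⟩
    · exact ⟨1, one_mul _⟩
    · refine ⟨φ (X j), Subtype.ext ?_⟩
      show (φ (X j) : Localization.Away (f k)) * algebraMap A _ (f k) = algebraMap A _ (f (k.succAbove j))
      rw [← algebraMap_mul_ratio, mul_comm]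
      simp [φ]
  · rw [Ideal.span_singleton_le_iff_mem, RingHom.mem_ker, ← φ.commutes, hχ]
    simp [g, hfI]

/-- A local ring at a prime containing `a`: `a` is regular and the quotient is a local ring of `(A/I)[T]`. -/
theorem localization_of_mem [IsNoetherianRing A] (hf : KReg f) (hI : I = Ideal.span (Set.range f))
    (q : Ideal (CR I (f k))) [q.IsPrime] (h : algebraMap A (CR I (f k)) (f k) ∈ q) :
    IsSMulRegular (Localization.AtPrime q) (algebraMap _ (Localization.AtPrime q) (algebraMap A (CR I (f k)) (f k))) ∧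
      ∃ (Q : Ideal (MvPolynomial (Fin m) (A ⧸ I))) (_ : Q.IsPrime), Nonempty
        ((Localization.AtPrime q ⧸ Ideal.span {algebraMap _ (Localization.AtPrime q) (algebraMap A (CR I (f k)) (f k))})
          ≃+* Localization.AtPrime Q) := by
  obtain ⟨χ, hχ, hk⟩ := exists_chart_quotient f k hf hI
  refine ⟨?_, quotient_localization χ hχ _ hk q h⟩
  suffices H : ∀ z : Localization.AtPrime q,
      algebraMap _ (Localization.AtPrime q) (algebraMap A (CR I (f k)) (f k)) * z = 0 → z = 0 from
    fun a b hab => sub_eq_zero.1 (H (a - b) (by rw [mul_sub]; exact sub_eq_zero.2 hab))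
  intro z hz
  obtain ⟨s, t, rfl⟩ := IsLocalization.exists_mk'_eq q.primeCompl z
  rw [IsLocalization.mul_mk'_eq_mk'_of_mul, IsLocalization.mk'_eq_zero_iff] at hz
  obtain ⟨c, hc⟩ := hz
  rw [IsLocalization.mk'_eq_zero_iff]
  refine ⟨c, isSMulRegular_chart _ _ ?_⟩
  rw [mul_left_comm]
  exact hc

theorem isNoetherianRing_chart [IsNoetherianRing A] (hI : I = Ideal.span (Set.range f)) :
    IsNoetherianRing (CR I (f k)) := by
  let φ : MvPolynomial (Fin m) A →ₐ[A] (CR I (f k)) :=
    (aeval (R := A) (ratio f k)).codRestrict _ fun r => by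
      rw [← range_aeval_ratio f k hI]; exact ⟨r, rfl⟩
  refine isNoetherianRing_of_surjective (MvPolynomial (Fin m) A) (CR I (f k)) φ.toRingHom fun ⟨z, hz⟩ => ?_
  rw [← range_aeval_ratio f k hI] at hz
  obtain ⟨r, hr⟩ := hz
  exact ⟨r, Subtype.ext hr⟩

/-- Charts in a regular centre of a regular scheme are regular. -/
theorem isRegularLocalRing_chart [IsRegularRing A] (hf : KReg f) (hI : I = Ideal.span (Set.range f))
    [IsRegularRing (A ⧸ I)] (q : Ideal (CR I (f k))) [q.IsPrime] :
    IsRegularLocalRing (Localization.AtPrime q) := by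
  have := isNoetherianRing_chart f k hI
  by_cases h : algebraMap A (CR I (f k)) (f k) ∈ q
  · obtain ⟨hreg, Q, hQ, ⟨e⟩⟩ := localization_of_mem f k hf hI q h
    have hx : algebraMap _ (Localization.AtPrime q) (algebraMap A (CR I (f k)) (f k)) ∈
        IsLocalRing.maximalIdeal (Localization.AtPrime q) :=
      (IsLocalization.AtPrime.to_map_mem_maximal_iff _ q _).2 h
    have := IsRegularLocalRing.of_ringEquiv e.symm
    exact CAlgH3.isRegularLocalRing_of_quotient hx hreg
  · obtain ⟨e⟩ := localization_of_notMem (f k) q h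
    exact IsRegularLocalRing.of_ringEquiv e

/-- Charts in a regularly embedded Cohen–Macaulay centre of a Cohen–Macaulay scheme are Cohen–Macaulay. -/
theorem isCohenMacaulayLocalRing_chart [LocCoh.IsCohenMacaulayRing A] (hf : KReg f)
    (hI : I = Ideal.span (Set.range f)) [LocCoh.IsCohenMacaulayRing (A ⧸ I)] (q : Ideal (CR I (f k))) [q.IsPrime] :
    LocCoh.IsCohenMacaulayLocalRing (Localization.AtPrime q) := by
  have := isNoetherianRing_chart f k hI
  by_cases h : algebraMap A (CR I (f k)) (f k) ∈ q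
  · obtain ⟨hreg, Q, hQ, ⟨e⟩⟩ := localization_of_mem f k hf hI q h
    have hx : algebraMap _ (Localization.AtPrime q) (algebraMap A (CR I (f k)) (f k)) ∈
        IsLocalRing.maximalIdeal (Localization.AtPrime q) :=
      (IsLocalization.AtPrime.to_map_mem_maximal_iff _ q _).2 h
    have : LocCoh.IsCohenMacaulayRing (MvPolynomial (ULift.{u} (Fin m)) (A ⧸ I)) :=
      CAlgH3.isCohenMacaulayRing_mvPolynomial _
    have : LocCoh.IsCohenMacaulayRing (MvPolynomial (Fin m) (A ⧸ I)) :=
      CAlgH3.isCohenMacaulayRing_of_ringEquiv (MvPolynomial.renameEquiv _ Equiv.ulift).toRingEquiv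
    have : LocCoh.IsCohenMacaulayLocalRing (Localization.AtPrime Q) :=
      LocCoh.IsCohenMacaulayRing.isCohenMacaulayLocalRing_localization Q
    have := e.symm.isLocalRing
    exact (CAlgH3.isCohenMacaulayLocalRing_quotient_span_iff hx hreg).1
      (CAlgH3.isCohenMacaulayLocalRing_of_ringEquiv e.symm)
  · obtain ⟨e⟩ := localization_of_notMem (f k) q h
    have : LocCoh.IsCohenMacaulayLocalRing (Localization.AtPrime (q.comap (algebraMap A (CR I (f k))))) :=
      LocCoh.IsCohenMacaulayRing.isCohenMacaulayLocalRing_localization _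
    exact CAlgH3.isCohenMacaulayLocalRing_of_ringEquiv e

/-- The local rings of an affine open are the stalks. -/
theorem localization_stalk_equiv {X : Scheme.{u}} (U : X.affineOpens) (p : Ideal Γ(X, U.1)) [p.IsPrime] :
    ∃ x : X, x ∈ U.1 ∧ Nonempty (X.presheaf.stalk x ≃+* Localization.AtPrime p) := by
  let y : PrimeSpectrum Γ(X, U.1) := ⟨p, inferInstance⟩
  have hy : U.2.fromSpec y ∈ U.1 := by
    rw [← SetLike.mem_coe, ← U.2.range_fromSpec]; exact ⟨y, rfl⟩
  let _ := TopCat.Presheaf.algebra_section_stalk X.presheaf ⟨U.2.fromSpec y, hy⟩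
  have := U.2.isLocalization_stalk' y hy
  exact ⟨_, hy, ⟨(IsLocalization.algEquiv p.primeCompl (X.presheaf.stalk (U.2.fromSpec y))
    (Localization.AtPrime p)).toRingEquiv⟩⟩

/-- A stalk of a blow-up is a local ring of a chart. -/
theorem stalk_blowUp {X X' : Scheme.{u}} {J : X.IdealSheafData} {b : X' ⟶ X} (hb : BlowUp.IsBlowUp b J)
    (U : X.affineOpens) {n : ℕ} (F : Fin n → Γ(X, U.1)) (hF : J.ideal U = Ideal.span (Set.range F))
    (z : X') (hz : b z ∈ U.1) :
    ∃ (i : Fin n) (q : Ideal ↥(BlowUp.affineAlgebra Γ(X, U.1) (J.ideal U) (F i))) (_ : q.IsPrime),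
      Nonempty (X'.presheaf.stalk z ≃+* Localization.AtPrime q) := by
  obtain ⟨a, ⟨i, rfl⟩, hmem⟩ := BlowUpLib.exists_mem_locus b hb.1 U (show z ∈ b ⁻¹ᵁ U.1 from hz)
    (Set.range F) hF.symm
  obtain ⟨e, -⟩ := SDiv28.exists_locus_iso hb U (hF ▸ Ideal.subset_span ⟨i, rfl⟩ : F i ∈ J.ideal U)
  let g := e.inv ≫ (BlowUpLib.locus J b U (F i)).ι
  let y : BlowUpLib.chart J U (F i) := e.hom ⟨z, hmem⟩
  have hy : g y = z := by
    show (BlowUpLib.locus J b U (F i)).ι (e.inv (e.hom ⟨z, hmem⟩)) = z
    rw [← Scheme.Hom.comp_apply e.hom e.inv, e.hom_inv_id]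
    rfl
  refine ⟨i, y.asIdeal, y.2, ?_⟩
  rw [← hy]
  exact ⟨((asIso (g.stalkMap y)) ≪≫ Spec.stalkIso _ y).commRingCatIsoToRingEquiv⟩

end Groth.Agent.BlowUpKoszul
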