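import Groth.Agent.BlowUpKoszul.Relations
import Groth.Agent.KRRPBLib.Chart
import Groth.Agent.SDiv28.Charts
import Groth.Agent.BlowUpLib.Proper
import Groth.Prelude.Def_RegImm
import Groth.Prelude.Def_FlatMod2

/-!
# The blow-up in a Koszul regular ideal inside the projective bundle

In the chart at the `k`-th basis section, `j : X' → P(E)` is the closed immersion of `Spec A[I/f k]` in affine
space over `Spec A` cut out by the Koszul regular relations `f k T - f`.
-/

set_option autoImplicit false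
set_option linter.unusedSectionVars false
set_option backward.isDefEq.respectTransparency.types false
set_option maxHeartbeats 1000000

universe u

open AlgebraicGeometry CategoryTheory TopologicalSpace Opposite
open Groth.Agent.Coherent Groth.Agent.PicLib
open Groth.Agent.CAlgH.KoszulRegular

namespace Groth.Agent.BlowUpKoszul

variable {X X' P : Scheme.{u}} {E : X.Modules} {π : P ⟶ X} {O1 : P.Modules}
  {q : (Scheme.Modules.pullback π).obj E ⟶ O1} {j : X' ⟶ P}

/-- The value of a functional on a section. -/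
noncomputable def funVal (v : E ⟶ Coh.structureModule X) {U : X.Opens} (e : Γ(E, U)) : Γ(X, U) := v.app U e

variable (v : E ⟶ Coh.structureModule X)
  (w : (Scheme.Modules.pullback j).obj O1 ⟶ Coh.structureModule X')

/-- `w` carries the universal quotient to the inverse image of `v`. -/
def Compat : Prop :=
  ∀ (U : X.Opens) (e : Γ(E, U)),
    (show Γ(X', j ⁻¹ᵁ (π ⁻¹ᵁ U)) from w.app _ (PicLib.pullSec j (KRRPBLib.sec q e))) =
      (j ≫ π).app U (funVal v e)

variable {v w} (hw : Compat (q := q) v w) {U : X.affineOpens}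

include hw

/-- The relation between the coordinates and the inverse image of the functional. -/
theorem relation (e e' : Γ(E, U.1)) {W : X'.Opens} (hW : W ≤ j ⁻¹ᵁ KRRPBLib.D q e) :
    (j ≫ π).appLE U.1 W (hW.trans (j.preimage_mono (KRRPBLib.D_le q e))) (funVal v e') =
      j.appLE (KRRPBLib.D q e) W hW (KRRPBLib.coord q e e') *
        (j ≫ π).appLE U.1 W (hW.trans (j.preimage_mono (KRRPBLib.D_le q e))) (funVal v e) := by
  have h := congrArg (w.app W) (congrArg (resM _ hW) (KRRPBLib.pullSec_coord q j e e'))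
  rw [resM_resM, resM_smul, resM_resM, Scheme.Modules.Hom.app_smul, app_resM, app_resM] at h
  have key : ∀ e'' : Γ(E, U.1), (j ≫ π).appLE U.1 W (hW.trans (j.preimage_mono (KRRPBLib.D_le q e))) (funVal v e'') =
      resM (Coh.structureModule X') (hW.trans (j.preimage_mono (KRRPBLib.D_le q e)))
        (w.app _ (PicLib.pullSec j (KRRPBLib.sec q e''))) := fun e'' =>
    (congrArg (X'.presheaf.map (homOfLE (hW.trans (j.preimage_mono (KRRPBLib.D_le q e)))).op) (hw U.1 e'')).symm
  rw [key, key]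
  exact h

variable {J : X.IdealSheafData} (hcar : BlowUp.IsEffCartierIdeal (J.comap (j ≫ π)))
  (hP : KRR.IsProjBundle π E O1 q) [Coh.IsQCoh E] {m : ℕ}
  (b : Module.Basis (Fin (m + 1)) Γ(X, U.1) Γ(E, U.1))
  (hJ : J.ideal U = Ideal.span (Set.range fun i => funVal v (b i)))

include hcar hP hJ

/-- The chart of the bundle pulls back to the chart of the blow-up. -/
theorem preimage_D (k : Fin (m + 1)) :
    j ⁻¹ᵁ KRRPBLib.D q (b k) = BlowUpLib.locus J (j ≫ π) U (funVal v (b k)) := by
  have hideal : ∀ (V : X'.affineOpens) (hV : V.1 ≤ (j ≫ π) ⁻¹ᵁ U.1) (i : Fin (m + 1))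
      (hD : V.1 ≤ j ⁻¹ᵁ KRRPBLib.D q (b i)),
      (J.comap (j ≫ π)).ideal V = Ideal.span {((j ≫ π).appLE U.1 V.1 hV).hom (funVal v (b i))} := by
    intro V hV i hD
    rw [ProjLib.comap_ideal_eq J _ U V hV, hJ, Ideal.map_span]
    refine le_antisymm (Ideal.span_le.2 ?_) (Ideal.span_mono ?_)
    · rintro _ ⟨_, ⟨i', rfl⟩, rfl⟩
      exact Ideal.mem_span_singleton'.2 ⟨_, (relation hw (b i) (b i') hD).symm⟩
    · rintro _ rfl
      exact ⟨_, ⟨i, rfl⟩, rfl⟩
  refine le_antisymm (fun x hx => ?_) fun x hx => ?_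
  · obtain ⟨_, ⟨W, hW, rfl⟩, hxW, hWle⟩ := X'.isBasis_affineOpens.exists_subset_of_mem_open hx
      (j ⁻¹ᵁ KRRPBLib.D q (b k)).isOpen
    have hWU : W ≤ (j ≫ π) ⁻¹ᵁ U.1 := fun z hz => KRRPBLib.D_le q (b k) (hWle hz)
    exact BlowUpLib.mem_locus.2 ⟨⟨W, hW⟩, hxW, hWU, hideal ⟨W, hW⟩ hWU k hWle⟩
  · obtain ⟨V, hxV, hV⟩ := BlowUpLib.mem_locus.1 hx
    obtain ⟨i, hi⟩ := KRRPBLib.exists_mem_D hP b (show j x ∈ π ⁻¹ᵁ U.1 from hV.1 hxV) U.2
    obtain ⟨_, ⟨W, hW, rfl⟩, hxW, hWle⟩ := X'.isBasis_affineOpens.exists_subset_of_mem_open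
      (show x ∈ V.1 ⊓ j ⁻¹ᵁ KRRPBLib.D q (b i) from ⟨hxV, hi⟩) (V.1 ⊓ j ⁻¹ᵁ KRRPBLib.D q (b i)).isOpen
    have hWV : W ≤ V.1 := fun z hz => (hWle hz).1
    have hWD : W ≤ j ⁻¹ᵁ KRRPBLib.D q (b i) := fun z hz => (hWle hz).2
    obtain ⟨e, he⟩ := hV.mono (V' := ⟨W, hW⟩) hWV
    let c := j.appLE _ W hWD (KRRPBLib.coord q (b i) (b k))
    have h1 : ((j ≫ π).appLE U.1 W e).hom (funVal v (b k)) =
        c * ((j ≫ π).appLE U.1 W e).hom (funVal v (b i)) := relation hw (b i) (b k) hWD
    have h2 := hideal ⟨W, hW⟩ e i hWD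
    obtain ⟨d, hd⟩ := Ideal.mem_span_singleton'.1 ((h2.symm.trans he).le (Ideal.mem_span_singleton_self _))
    have hu : IsUnit c := by
      refine IsUnit.of_mul_eq_one d ?_
      refine (mul_cancel_right_mem_nonZeroDivisors (BlowUpLib.mem_nonZeroDivisors_of_eff hcar h2)).1 ?_
      rw [one_mul, mul_comm c d, mul_assoc, ← h1]
      exact hd
    have hx' : x ∈ X'.basicOpen ((j.app _).hom (KRRPBLib.coord q (b i) (b k))) :=
      BlowUpLib.le_basicOpen_of_isUnit hWD _ hu hxW
    rw [← Scheme.preimage_basicOpen] at hx'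
    exact KRRPBLib.basicOpen_coord_le q (b i) (b k) hx'

set_option backward.isDefEq.respectTransparency false in
omit hP hJ hcar hw in
/-- Functions of the base on an open through its inclusion. -/
theorem ι_appLE_topIso (g : X' ⟶ X) {O : X.Opens} (W : X'.Opens) (hW : W ≤ g ⁻¹ᵁ O) :
    (W.ι ≫ g).appLE O ⊤ (fun x _ => hW x.2) ≫ W.topIso.hom = g.appLE O W hW := by
  rw [← Scheme.Hom.appLE_comp_appLE W.ι g O W ⊤ hW (fun x _ => x.2), Category.assoc, Scheme.Opens.ι_appLE,
    Scheme.Opens.topIso_hom]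
  simp only [← Functor.map_comp]
  rw [Scheme.Hom.appLE_map]

variable (hf : BlowUp.IsBlowUp (j ≫ π) J) (hreg : KReg fun i => funVal v (b i))
include hf hreg

/-- The chart: `j` is a closed immersion cut out by a Koszul regular sequence. -/
theorem chart_data (k : Fin (m + 1)) :
    IsAffineOpen (KRRPBLib.D q (b k)) ∧ IsClosedImmersion (j ∣_ KRRPBLib.D q (b k)) ∧
      ∃ rs : Fin m → Γ(P, KRRPBLib.D q (b k)), LCI.IsKoszulRegularSeq _ (List.ofFn rs) ∧
        RingHom.ker (j.app (KRRPBLib.D q (b k))).hom = Ideal.ofList (List.ofFn rs) := by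
  classical
  set D := KRRPBLib.D q (b k) with hDdef
  let A := Γ(X, U.1)
  let F : Fin (m + 1) → A := fun i => funVal v (b i)
  have hiso : IsIso (KRRPBLib.toAffineSpace (q := q) b k) := KRRPBLib.isIso_toAffineSpace hP U.2 b k
  have hDaff : IsAffineOpen D := IsAffine.of_isIso (KRRPBLib.toAffineSpace (q := q) b k)
  let ψ := KRRPBLib.coordHom (q := q) b k
  have hψ : Function.Bijective ψ := by
    have e0 := KRRPBLib.appTop_toAffineSpace (q := q) b k
    have h1 : CommRingCat.ofHom ψ = ((Scheme.ΓSpecIso (CommRingCat.of (MvPolynomial (Fin m) A))).inv ≫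
        (KRRPBLib.toAffineSpace (q := q) b k).appTop) ≫ D.topIso.hom := by
      rw [e0, Category.assoc, Iso.inv_hom_id, Category.comp_id]
    have : IsIso (KRRPBLib.toAffineSpace (q := q) b k).appTop := inferInstanceAs
      (IsIso ((KRRPBLib.toAffineSpace (q := q) b k).app ⊤))
    have : IsIso (CommRingCat.ofHom ψ) := by rw [h1]; infer_instance
    exact ConcreteCategory.bijective_of_isIso (CommRingCat.ofHom ψ)
  have ha : F k ∈ J.ideal U := hJ ▸ Ideal.subset_span ⟨k, rfl⟩
  have hloc := preimage_D hw hcar hP b hJ k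
  obtain ⟨W, hWdef⟩ : ∃ W, BlowUpLib.locus J (j ≫ π) U (F k) = W := ⟨_, rfl⟩
  obtain ⟨e, he⟩ := SDiv28.exists_locus_iso hf U ha
  revert e
  rw [hWdef]
  intro e he
  replace hloc : j ⁻¹ᵁ D = W := hloc.trans hWdef
  have hWD : W ≤ j ⁻¹ᵁ D := hloc.ge
  have hWU : W ≤ (j ≫ π) ⁻¹ᵁ U.1 := hWD.trans (j.preimage_mono (KRRPBLib.D_le q (b k)))
  let R := BlowUpLib.ChartRing J U (F k)
  let σ : CommRingCat.of R ⟶ Γ(X', W) :=
    ((Scheme.ΓSpecIso (CommRingCat.of R)).inv ≫ e.hom.appTop) ≫ W.topIso.hom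
  have : IsIso e.hom.appTop := inferInstanceAs (IsIso (e.hom.app ⊤))
  have : IsIso σ := by simp only [σ]; infer_instance
  have hσb : Function.Bijective σ := ConcreteCategory.bijective_of_isIso σ
  have eT : (⊤ : (BlowUpLib.chart J U (F k)).Opens) ≤ BlowUpLib.chartMap J U (F k) ⁻¹ᵁ U.1 := fun z _ => by
    show U.2.fromSpec _ ∈ U.1
    rw [← SetLike.mem_coe, ← U.2.range_fromSpec]
    exact ⟨_, rfl⟩
  have hσA : CommRingCat.ofHom (algebraMap A R) ≫ σ = (j ≫ π).appLE U.1 W hWU := by
    rw [← ι_appLE_topIso (j ≫ π) W hWU]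
    simp only [← he]
    rw [← Scheme.Hom.appLE_comp_appLE e.hom (BlowUpLib.chartMap J U (F k)) U.1 ⊤ ⊤ eT le_top,
      BlowUpLib.chartMap_appLE eT, Category.assoc]
    have e2 : e.hom.appLE ⊤ ⊤ le_top = e.hom.appTop := Scheme.Hom.appLE_eq_app (f := e.hom) (U := ⊤)
    rw [e2]
    simp only [σ, Category.assoc]
    rfl
  let σe : R ≃+* Γ(X', W) := RingEquiv.ofBijective σ.hom hσb
  let ρ : MvPolynomial (Fin m) A →+* Γ(X', W) := (j.appLE D W hWD).hom.comp ψ
  let θ : MvPolynomial (Fin m) A →+* R := σe.symm.toRingHom.comp ρ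
  let val : R →+* Localization.Away (F k) := (BlowUp.affineAlgebra A (J.ideal U) (F k)).val.toRingHom
  have hC : ∀ a : A, θ (MvPolynomial.C a) = algebraMap A R a := fun a => by
    apply σe.injective
    simp only [θ, RingHom.comp_apply, RingEquiv.toRingHom_eq_coe, RingEquiv.coe_toRingHom,
      RingEquiv.apply_symm_apply]
    have h1 : ρ (MvPolynomial.C a) = (π.appLE U.1 D (KRRPBLib.D_le q (b k)) ≫ j.appLE D W hWD) a := by
      simp only [ρ, ψ, KRRPBLib.coordHom, RingHom.comp_apply, MvPolynomial.eval₂Hom_C]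
      rfl
    rw [h1, Scheme.Hom.appLE_comp_appLE]
    exact (ConcreteCategory.congr_hom hσA a).symm
  have hval : val.comp θ = (MvPolynomial.aeval (R := A) (ratio F k)).toRingHom := by
    refine MvPolynomial.ringHom_ext (fun a => ?_) fun i => ?_
    · rw [RingHom.comp_apply, hC, AlgHom.toRingHom_eq_coe, RingHom.coe_coe, MvPolynomial.aeval_C]
      rfl
    · rw [RingHom.comp_apply, AlgHom.toRingHom_eq_coe, RingHom.coe_coe, MvPolynomial.aeval_X]
      have h1 : ρ (MvPolynomial.X i) * σ (algebraMap A R (F k)) = σ (algebraMap A R (F (k.succAbove i))) := by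
        have h2 : ∀ a, σ (algebraMap A R a) = (j ≫ π).appLE U.1 W hWU a := fun a => ConcreteCategory.congr_hom hσA a
        rw [h2, h2]
        simp only [ρ, ψ, KRRPBLib.coordHom, RingHom.comp_apply, MvPolynomial.eval₂Hom_X']
        exact (relation hw (b k) (b (k.succAbove i)) hWD).symm
      have h3 : θ (MvPolynomial.X i) * algebraMap A R (F k) = algebraMap A R (F (k.succAbove i)) := by
        apply σe.injective
        rw [map_mul]
        simp only [θ, RingHom.comp_apply, RingEquiv.toRingHom_eq_coe, RingEquiv.coe_toRingHom,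
          RingEquiv.apply_symm_apply]
        exact h1
      have h4 := congrArg val h3
      rw [map_mul] at h4
      refine (IsLocalization.Away.algebraMap_isUnit (S := Localization.Away (F k)) (F k)).mul_right_cancel ?_
      refine h4.trans ?_
      rw [mul_comm, algebraMap_mul_ratio]
      rfl
  have hvalinj : Function.Injective val := Subtype.val_injective
  have hθs : Function.Surjective θ := fun z => by
    have hz : val z ∈ (MvPolynomial.aeval (R := A) (ratio F k)).range := by
      rw [range_aeval_ratio F k hJ]; exact z.2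
    obtain ⟨p, hp⟩ := hz
    exact ⟨p, hvalinj ((RingHom.congr_fun hval p).trans hp)⟩
  have hker : RingHom.ker θ = Ideal.span (Set.range (rel F k)) := by
    rw [← ker_aeval_ratio F k hreg, ← RingHom.ker_comp_of_injective θ hvalinj, hval]
    rfl
  have hρs : Function.Surjective ρ := fun z => by
    obtain ⟨p, hp⟩ := hθs (σe.symm z)
    exact ⟨p, σe.symm.injective hp⟩
  have hρk : RingHom.ker ρ = Ideal.span (Set.range (rel F k)) := by
    rw [← hker]
    exact (RingHom.ker_comp_of_injective ρ σe.symm.injective).symm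
  have hWeq : W = j ⁻¹ᵁ D := hloc.symm
  have happ : Function.Surjective (j.app D) ∧
      RingHom.ker (j.app D).hom = (Ideal.span (Set.range (rel F k))).map ψ := by
    suffices H : ∀ (W' : X'.Opens) (h : W' ≤ j ⁻¹ᵁ D) (_ : j ⁻¹ᵁ D = W'),
        Function.Surjective ((j.appLE D W' h).hom.comp ψ) →
        RingHom.ker ((j.appLE D W' h).hom.comp ψ) = Ideal.span (Set.range (rel F k)) →
          Function.Surjective (j.app D) ∧ RingHom.ker (j.app D).hom = (Ideal.span (Set.range (rel F k))).map ψ from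
      H W hWD hloc hρs hρk
    rintro W' h rfl hs hk
    rw [Scheme.Hom.app_eq_appLE]
    refine ⟨Function.Surjective.of_comp hs, ?_⟩
    rw [← hk, ← RingHom.comap_ker, Ideal.map_comap_of_surjective _ hψ.2]
  refine ⟨hDaff, ?_, fun i => ψ (rel F k i), ?_, ?_⟩
  · have : IsAffine D.toScheme := hDaff
    have : IsAffine (j ⁻¹ᵁ D).toScheme := by
      rw [← hWeq]
      exact IsAffine.of_isIso e.hom
    refine IsClosedImmersion.of_surjective_of_isAffine _ ?_
    rw [morphismRestrict_appTop]
    have hb1 := ConcreteCategory.bijective_of_isIso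
      (X'.presheaf.map (eqToHom (image_morphismRestrict_preimage j D ⊤)).op)
    have hs : Function.Surjective (j.app (D.ι ''ᵁ ⊤)) := by
      rw [Scheme.Opens.ι_image_top]; exact happ.1
    exact hb1.2.comp hs
  · rw [isKoszulRegularSeq_iff]
    let _ := ψ.toAlgebra
    have : Module.Flat (MvPolynomial (Fin m) A) Γ(P, D) :=
      RingHom.flat_algebraMap_iff.1 (RingHom.Flat.of_bijective hψ)
    exact KReg.map (kreg_rel F k hreg)
  · rw [happ.2, Ideal.map_span, ← Set.range_comp]
    exact congrArg Ideal.span (by ext z; simp [List.mem_ofFn]; rfl)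

end Groth.Agent.BlowUpKoszul
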