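import Groth.Agent.BlowUpKoszul.ToBundle
import Groth.Agent.CAlgH3.LocFreeFactor
import Groth.Prelude.Def_ClSub2
import Groth.Prelude.Def_BlowUp2

/-!
# The morphism from a Koszul regular blow-up to the projective bundle is a regular closed immersion
-/

set_option autoImplicit false
set_option linter.unusedSectionVars false
set_option backward.isDefEq.respectTransparency.types false
set_option maxHeartbeats 1000000

universe u

open AlgebraicGeometry CategoryTheory TopologicalSpace Opposite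
open Groth.Agent.Coherent Groth.Agent.PicLib
open Groth.Agent.CAlgH.KoszulRegular

namespace Groth.Agent.BlowUpKoszul

variable {X X' P : Scheme.{u}} {E : X.Modules}

/-- The length of a basis over an open meeting a rank `c` trivialisation is `c`. -/
theorem card_basis_eq [Coh.IsQCoh E] {U : X.affineOpens} {n c : ℕ} (b : Module.Basis (Fin n) Γ(X, U.1) Γ(E, U.1))
    (hEc : FlatMod.IsFinLocFreeOfRank c E) {x : X} (hx : x ∈ U.1) : n = c := by
  obtain ⟨V, hxV, ⟨e⟩⟩ := hEc x
  have : IsAffine U.1.toScheme := U.2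
  have := H8Coh.isQCoh_restrictOpen U.1 E
  obtain ⟨b₀⟩ := Props12.exists_basis_restrict_top E U.1 b
  obtain ⟨e'⟩ := Props12.exists_iso_freeMod_of_basis (E.restrict U.1.ι) b₀
  obtain ⟨b₁⟩ := Props12.exists_basis_sections e' (inf_le_left : U.1 ⊓ V ≤ U.1)
  obtain ⟨b₂⟩ := Props12.exists_basis_sections e (inf_le_right : U.1 ⊓ V ≤ V)
  have : Nontrivial Γ(X, U.1 ⊓ V) := (X.presheaf.germ (U.1 ⊓ V) x ⟨hx, hxV⟩).hom.domain_nontrivial
  simpa using Fintype.card_congr (b₁.indexEquiv b₂)

theorem main (hE : FlatMod.IsFinLocFree E) (v : E ⟶ Coh.structureModule X)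
    (hv : ∀ x : X, ∃ U : X.affineOpens, x ∈ U.1 ∧
      ∃ (n : ℕ) (b : Module.Basis (Fin n) Γ(X, U.1) (E.val.obj (op U.1))),
        LCI.IsKoszulRegularSeq Γ(X, U.1) (List.ofFn fun k => ((v.val.app (op U.1)).hom (b k) : Γ(X, U.1))))
    (J : X.IdealSheafData) (hJ : ∀ U : X.affineOpens, J.ideal U = @Ideal.span Γ(X, U.1) _ (Set.range fun s : E.val.obj (op U.1) => ((v.val.app (op U.1)).hom s : Γ(X, U.1))))
    (π : P ⟶ X) (O1 : P.Modules) (q : (Scheme.Modules.pullback π).obj E ⟶ O1) (hP : KRR.IsProjBundle π E O1 q)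
    (f : X' ⟶ X) (hf : BlowUp.IsBlowUp f J)
    (j : X' ⟶ P) (hjπ : j ≫ π = f)
    (e : (Scheme.Modules.pullback j).obj O1 ≅ ClSub.idealMod (BlowUp.exceptional f J))
    (hcomp : (Scheme.Modules.pullbackCongr hjπ).inv.app E ≫ (Scheme.Modules.pullbackComp j π).inv.app E ≫
        (Scheme.Modules.pullback j).map q ≫ e.hom ≫ ClSub.idealModι (BlowUp.exceptional f J) =
      (Scheme.Modules.pullback f).map v ≫
        ((Scheme.Modules.pullbackPushforwardAdjunction f).homEquiv _ _).symm
          (SheafOfModules.unitToPushforwardObjUnit f.toRingCatSheafHom)) :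
    IsClosedImmersion j ∧ ∀ y : P, ∃ D : P.Opens, y ∈ D ∧ IsAffineOpen D ∧ IsClosedImmersion (j ∣_ D) ∧
      ∃ (m : ℕ) (rs : Fin m → Γ(P, D)), LCI.IsKoszulRegularSeq _ (List.ofFn rs) ∧
        RingHom.ker (j.app D).hom = Ideal.ofList (List.ofFn rs) ∧
        ∀ c : ℕ, FlatMod.IsFinLocFreeOfRank c E → m = c - 1 := by
  subst hjπ
  have := CAlgH3.LocFreeFactor.isQCoh_of_finLocFree hE
  let w : (Scheme.Modules.pullback j).obj O1 ⟶ Coh.structureModule X' :=
    e.hom ≫ ClSub.idealModι (BlowUp.exceptional (j ≫ π) J)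
  have hw : Compat (q := q) v w := by
    intro U s
    have hc : (Scheme.Modules.pullbackCongr (rfl : j ≫ π = j ≫ π)).inv.app E = 𝟙 _ := by
      simp [Scheme.Modules.pullbackCongr]
    rw [hc, Category.id_comp] at hcomp
    have h := congrArg (fun z => ((Scheme.Modules.pullbackPushforwardAdjunction (j ≫ π)).homEquiv E
      (Coh.structureModule X') z).app U s) hcomp
    have hL := KRRPBLib.app_adjunct_pullback (q := q) j w U s
    refine hL.symm.trans (h.trans ?_)
    rw [Adjunction.homEquiv_unit]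
    show (((Scheme.Modules.pullbackPushforwardAdjunction (j ≫ π)).homEquiv _ _).symm
        (SheafOfModules.unitToPushforwardObjUnit (j ≫ π).toRingCatSheafHom)).app _
      (((Scheme.Modules.pullback (j ≫ π)).map v).app _ (PicLib.pullSec (j ≫ π) s)) = _
    rw [RelVALib.map_app_pullSec, homEquiv_symm_app_pullSec]
    rfl
  have hloc : ∀ y : P, ∃ D : P.Opens, y ∈ D ∧ IsAffineOpen D ∧ IsClosedImmersion (j ∣_ D) ∧
      ∃ (m : ℕ) (rs : Fin m → Γ(P, D)), LCI.IsKoszulRegularSeq _ (List.ofFn rs) ∧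
        RingHom.ker (j.app D).hom = Ideal.ofList (List.ofFn rs) ∧
        ∀ c : ℕ, FlatMod.IsFinLocFreeOfRank c E → m = c - 1 := by
    intro y
    obtain ⟨U, hyU, n, b, hb⟩ := hv (π y)
    obtain ⟨i, hi⟩ := KRRPBLib.exists_mem_D hP (U := U.1) b hyU U.2
    obtain ⟨m, rfl⟩ : ∃ m, n = m + 1 := ⟨n - 1, by have := i.2; omega⟩
    have hJU : J.ideal U = Ideal.span (Set.range fun k => funVal v (b k)) := by
      refine (hJ U).trans (le_antisymm (Ideal.span_le.2 ?_) (Ideal.span_mono ?_))
      · rintro _ ⟨s, rfl⟩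
        show funVal v s ∈ Ideal.span _
        have h := (b.sum_repr s).symm
        have h1 : funVal v s = ∑ k, b.repr s k * funVal v (b k) := by
          show (v.app U.1 s : Γ(X, U.1)) = _
          conv_lhs => rw [h]
          refine (map_sum (v.app U.1).hom _ _).trans (Finset.sum_congr rfl fun k _ => ?_)
          exact Scheme.Modules.Hom.app_smul v _ _
        rw [h1]
        exact Ideal.sum_mem _ fun k _ => Ideal.mul_mem_left _ _ (Ideal.subset_span ⟨k, rfl⟩)
      · rintro _ ⟨k, rfl⟩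
        exact ⟨_, rfl⟩
    have hreg : KReg fun k => funVal v (b k) := (isKoszulRegularSeq_iff _).1 hb
    obtain ⟨hD, hcl, rs, hrs, hker⟩ := chart_data hw hf.1 hP b hJU hf hreg i
    refine ⟨_, hi, hD, hcl, m, rs, hrs, hker, fun c hc => ?_⟩
    have := card_basis_eq b hc hyU
    omega
  refine ⟨?_, hloc⟩
  choose D hyD hD hcl hrest using hloc
  exact (IsZariskiLocalAtTarget.iff_of_iSup_eq_top (P := @IsClosedImmersion) D
    (eq_top_iff.2 fun y _ => Opens.mem_iSup.2 ⟨y, hyD y⟩)).2 hcl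

end Groth.Agent.BlowUpKoszul
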